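import Cfsg.Agent.Yam.Defs
import Mathlib.GroupTheory.SpecificGroups.Alternating

set_option autoImplicit false

namespace Cfsg.Lib.Yam

open Subgroup Equiv Equiv.Perm

variable {α : Type*} [Fintype α] [DecidableEq α]

omit [Fintype α] in
theorem four_sq {a b c d : α} (ab : a ≠ b) (ac : a ≠ c) (ad : a ≠ d) (bc : b ≠ c) (bd : b ≠ d)
    (cd : c ≠ d) : swap a d * swap a b * swap a c * (swap a d * swap a b * swap a c) =
      swap a b * swap c d ∧ swap b c * swap b a * swap b d = swap a d * swap a b * swap a c := by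
  constructor <;> ext x <;> simp only [Perm.mul_apply, swap_apply_def] <;> grind

theorem exists_not_mem (s : Finset α) (h : s.card < Fintype.card α) : ∃ e, e ∉ s :=
  by_contra fun e => (not_le.2 h) ((Finset.card_univ (α := α)).ge.trans
    (Finset.card_le_card fun x _ => by_contra fun k => e ⟨x, k⟩))

theorem pair_mem (hn : 6 ≤ Fintype.card α) {u : alternatingGroup α} (hu : ∀ x, u.1 (u.1 x) = x)
    {a c : α} (h1 : u.1 a ≠ a) (h2 : u.1 c ≠ c) (h3 : c ≠ a) (h4 : c ≠ u.1 a) :
    swap a (u.1 a) * swap c (u.1 c) ∈ (Sq u).map (alternatingGroup α).subtype := by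
  have hi := u.1.injective
  obtain ⟨e, f, ef, he, hf, hs⟩ : ∃ e f : α, e ≠ f ∧ e ∉ ({a, u.1 a, c, u.1 c} : Finset α) ∧
      f ∉ ({a, u.1 a, c, u.1 c} : Finset α) ∧ swap (u.1 e) (u.1 f) = swap e f := by
    have k : ∀ e : α, e ∉ ({a, u.1 a, c, u.1 c} : Finset α) → u.1 e ≠ e → ∃ e f : α, e ≠ f ∧
        e ∉ ({a, u.1 a, c, u.1 c} : Finset α) ∧ f ∉ ({a, u.1 a, c, u.1 c} : Finset α) ∧
          swap (u.1 e) (u.1 f) = swap e f := fun e he h => by
      refine ⟨e, u.1 e, h.symm, he, ?_, by rw [hu, swap_comm]⟩
      have := hu e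
      have := hu a
      have := hu c
      simp only [Finset.mem_insert, Finset.mem_singleton] at he ⊢
      grind
    obtain ⟨e, he⟩ := exists_not_mem ({a, u.1 a, c, u.1 c} : Finset α)
      (Finset.card_le_four.trans_lt (by omega))
    obtain ⟨f, hf⟩ := exists_not_mem (insert e ({a, u.1 a, c, u.1 c} : Finset α))
      (((Finset.card_insert_le _ _).trans (Nat.succ_le_succ Finset.card_le_four)).trans_lt (by omega))
    rw [Finset.mem_insert, not_or] at hf
    by_cases k1 : u.1 e = e
    · by_cases k2 : u.1 f = f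
      · exact ⟨e, f, Ne.symm hf.1, he, hf.2, by rw [k1, k2]⟩
      · exact k f hf.2 k2
    · exact k e he k1
  simp only [Finset.mem_insert, Finset.mem_singleton, not_or] at he hf
  have ad : a ≠ u.1 c := fun k => h4 (by rw [k, hu])
  have bd : u.1 a ≠ u.1 c := fun k => h3 (hi k).symm
  obtain ⟨q1, q2⟩ := four_sq h1.symm h3.symm ad h4.symm bd h2.symm
  set y := swap a (u.1 c) * swap a (u.1 a) * swap a c with hy
  have hc : y * swap e f = swap e f * y := by
    refine (Perm.Disjoint.commute fun x => ?_).eq
    simp only [hy, Perm.mul_apply, swap_apply_def]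
    grind
  have hm : y * swap e f ∈ alternatingGroup α := by
    simp [mem_alternatingGroup, hy, sign_swap, ad, h1.symm, h3.symm, ef]
  refine ⟨_, sq_mem (x := ⟨_, hm⟩) (Subtype.ext ?_), ?_⟩
  · show y * swap e f * u.1 = u.1 * (y * swap e f)
    have q3 : u.1 * y * u.1⁻¹ = y := by
      refine Eq.trans ?_ q2
      rw [hy, ← conj_mul, ← conj_mul, ← swap_apply_apply, ← swap_apply_apply,
        ← swap_apply_apply, hu, hu]
    have q4 : u.1 * swap e f * u.1⁻¹ = swap e f := by rw [← swap_apply_apply, hs]
    have : y * swap e f = u.1 * (y * swap e f) * u.1⁻¹ := by rw [← conj_mul, q3, q4]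
    exact (eq_mul_inv_iff_mul_eq.1 this)
  · show y * swap e f * (y * swap e f) = _
    rw [← q1, mul_assoc y (swap e f), ← mul_assoc (swap e f), ← hc, mul_assoc y (swap e f),
      swap_mul_self, mul_one]

theorem ns_alt (hn : 6 ≤ Fintype.card α) : NS (alternatingGroup α) := ns_of_all fun u hu => by
  have h2 : ∀ x, u.1 (u.1 x) = x := fun x => by
    have : u * u = 1 := by rw [← sq, ← hu, pow_orderOf_eq_one]
    exact congrArg (fun g : alternatingGroup α => g.1 x) this
  have key : ∀ (n : ℕ) (v : Perm α), v.support.card = n → sign v = 1 → (∀ x, v (v x) = x) →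
      (∀ x, v x = x ∨ v x = u.1 x) → v ∈ (Sq u).map (alternatingGroup α).subtype := fun n => by
    induction n using Nat.strong_induction_on with
    | _ n ih =>
    intro v hn' hs hv h
    by_cases h1 : ∀ a, v a = a
    · rw [show v = 1 from Equiv.ext h1]; exact one_mem _
    obtain ⟨a, ha⟩ := not_forall.1 h1
    have ea := (h a).resolve_left ha
    obtain ⟨c, hc⟩ : ∃ c, v c ≠ swap a (v a) c := by_contra fun k => by
      rw [show v = swap a (v a) from Equiv.ext fun c => by_contra fun k' => k ⟨c, k'⟩,
        sign_swap (Ne.symm ha)] at hs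
      exact absurd hs (by decide)
    have ca : c ≠ a := fun k => hc (by rw [k, swap_apply_left])
    have cb : c ≠ v a := fun k => hc (by rw [k, swap_apply_right, hv])
    rw [swap_apply_of_ne_of_ne ca cb] at hc
    have ec := (h c).resolve_left hc
    have h3 := pair_mem hn h2 (ea ▸ ha) (ec ▸ hc) ca (ea ▸ cb)
    rw [← ea, ← ec] at h3
    refine (mul_mem_cancel_right h3).1 ?_
    have hva := hv a
    have hvc := hv c
    have h4 : ∀ x, (v * (swap a (v a) * swap c (v c))) x =
        if x = a ∨ x = v a ∨ x = c ∨ x = v c then x else v x := fun x => by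
      simp only [Perm.mul_apply, swap_apply_def]
      grind
    have h5 : (v * (swap a (v a) * swap c (v c))).support.card < n := by
      refine hn' ▸ Finset.card_lt_card ⟨fun x hx => ?_, fun k => ?_⟩
      · rw [mem_support, h4] at hx
        rw [mem_support]
        grind
      · have := k (mem_support.2 ha)
        rw [mem_support, h4] at this
        simp at this
    refine ih _ h5 _ rfl ?_ (fun x => ?_) fun x => ?_
    · simp [hs, sign_swap, Ne.symm ha, Ne.symm hc]
    · have := hv x
      rw [h4, h4]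
      grind
    · have := h x
      rw [h4]
      grind
  obtain ⟨v, hv, e⟩ := key _ u.1 rfl (mem_alternatingGroup.1 u.2) h2 fun _ => Or.inr rfl
  rwa [show v = u from Subtype.ext e] at hv

end Cfsg.Lib.Yam
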