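import Cfsg.Agent.Yam.Lin
import Cfsg.Agent.Class.HermSimple
import Cfsg.Agent.S0246

set_option autoImplicit false

namespace Cfsg.Lib.Yam

open Subgroup Matrix Cfsg.Lib.Class
open scoped MatrixGroups

variable {K : Type*} [Field K]

theorem ns_fin {H : Type*} [Group H] [Finite H] (h2 : (2 : K) ≠ 0) {n : ℕ} (hn : 3 ≤ n)
    (ρ : H →* Matrix (Fin n) (Fin n) K) (hρ : Function.Injective ρ)
    (hZ : ∀ z ∈ center H, ∃ l : K, ρ z = l • 1) {α β : K} (hq : α ^ 2 + β ^ 2 = -1)
    (h1 : ∀ {a b : Fin n} (h : a ≠ b), ∃ g, ρ g = cor h (qN K))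
    (h3 : ∀ {a b : Fin n} (h : a ≠ b), ∃ g, ρ g = cor h (qJ hq)) : NS (H ⧸ center H) := by
  refine ns_lin h2 ρ hρ hZ (κ := Fin (n / 2)) (fun i => ⟨2 * i, by omega⟩)
    (fun i => ⟨2 * i + 1, by omega⟩) (fun i k e => Fin.ext (by simpa using e))
    (fun i k e => Fin.ext (by simpa using e)) (fun i k e => by simp at e; omega) (fun x y hx hy => ?_)
    (fun i => ?_) hq (fun i => h1 _) fun i => h3 _
  · have k : ∀ x : Fin n, (∀ i : Fin (n / 2), x ≠ ⟨2 * i, by omega⟩ ∧ x ≠ ⟨2 * i + 1, by omega⟩) →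
        n / 2 ≤ x / 2 := fun x hx => by
      by_contra e
      have := hx ⟨x / 2, by omega⟩
      simp only [ne_eq, Fin.ext_iff] at this
      omega
    have := k x hx
    have := k y hy
    exact Fin.ext (by omega)
  · by_cases e : (i : ℕ) = 0
    · exact ⟨⟨2, by omega⟩, by simp [Fin.ext_iff, e], by simp [Fin.ext_iff, e]⟩
    · exact ⟨⟨0, by omega⟩, by simp [Fin.ext_iff]; omega, by simp [Fin.ext_iff]⟩

theorem exists_sq_add_sq [Finite K] : ∃ α β : K, α ^ 2 + β ^ 2 = -1 := by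
  obtain ⟨p, _⟩ := CharP.exists K
  have : Fact p.Prime := ⟨CharP.char_is_prime K p⟩
  obtain ⟨a, b, h⟩ := exists_int_sq K p
  exact ⟨a, b, h⟩

theorem slToMat_injective (n : ℕ) : Function.Injective (slToMat n K) :=
  fun _ _ e => Subtype.ext e

theorem ns_PSL [Finite K] (h2 : (2 : K) ≠ 0) {n : ℕ} (hn : 3 ≤ n) :
    NS (ProjectiveSpecialLinearGroup (Fin n) K) := by
  obtain ⟨α, β, hq⟩ := exists_sq_add_sq (K := K)
  refine ns_fin h2 hn (slToMat n K) (slToMat_injective n) (fun z hz => ?_) hq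
    (fun h => ⟨⟨_, (det_cor h _).trans (qN K).2⟩, rfl⟩)
    fun h => ⟨⟨_, (det_cor h _).trans (qJ hq).2⟩, rfl⟩
  obtain ⟨r, -, hr⟩ := Matrix.SpecialLinearGroup.mem_center_iff.1 hz
  exact ⟨r, hr.symm.trans (by rw [scalar_apply, ← diagonal_one, ← diagonal_smul]; congr 1; ext; simp)⟩

theorem cor_mulVec {ι : Type*} [Fintype ι] [DecidableEq ι] {a b : ι} (h : a ≠ b)
    (M : Matrix (Fin 2) (Fin 2) K) (v : ι → K) (x : ι) : (cor h M *ᵥ v) x =
      if x = a then M 0 0 * v a + M 0 1 * v b else if x = b then M 1 0 * v a + M 1 1 * v b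
      else v x := cor_mul h M (of fun i (_ : ι) => v i) x x

theorem ns_PSU [Fintype K] (h2 : (2 : K) ≠ 0) {n q : ℕ} (hK : Fintype.card K = q ^ 2)
    (hn : 3 ≤ n) : NS (PSU n K q) := by
  let σ := frobq hK
  obtain ⟨α, β, hq, ha, hb⟩ : ∃ α β : K, α ^ 2 + β ^ 2 = -1 ∧ σ α = -α ∧ σ β = -β := by
    obtain ⟨δ, d0, d1⟩ := Form.exists_div_eq_of_norm_one (frobq_ne_id hK) (frobq_frobq hK)
      (μ := -1) (by simp only [map_neg, map_one]; ring)
    obtain ⟨i, hi⟩ : IsSquare (-1 : K) := FiniteField.isSquare_neg_one_iff.2 (by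
      rw [hK, sq, Nat.mul_mod]
      have : q % 4 < 4 := Nat.mod_lt _ (by decide)
      interval_cases q % 4 <;> decide)
    have h3 : σ i * σ i = i * i := by rw [← map_mul, ← hi, map_neg, map_one]
    rcases mul_self_eq_mul_self_iff.1 h3 with h4 | h4
    · refine ⟨(δ - δ⁻¹) / 2, i * (δ + δ⁻¹) / 2, ?_, ?_, ?_⟩
      · field_simp
        linear_combination -(δ ^ 2 + 1) ^ 2 * hi
      · rw [map_div₀, map_sub, map_inv₀, map_ofNat, d1]
        field_simp
        ring
      · rw [map_div₀, map_mul, map_add, map_inv₀, map_ofNat, d1, h4]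
        field_simp
        ring
    · exact ⟨i, 0, by linear_combination -hi, h4, by simp⟩
  have key : ∀ {a b : Fin n} (h : a ≠ b) (M : SL(2, K)), σ (M 0 0) = M 1 1 → σ (M 0 1) = -M 1 0 →
      σ (M 1 0) = -M 0 1 → σ (M 1 1) = M 0 0 →
      ∃ g, (slToMat n K).comp (SU n K q).subtype g = cor h M := fun {a b} h M e1 e2 e3 e4 => by
    refine ⟨⟨⟨_, (det_cor h _).trans M.2⟩, fun u v => ?_⟩, rfl⟩
    show ∑ x, (cor h M *ᵥ u) x * σ ((cor h M *ᵥ v) x) = ∑ x, u x * σ (v x)
    rw [← sub_eq_zero, ← Finset.sum_sub_distrib, Fintype.sum_eq_add a b h fun c hc => by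
      simp [cor_mulVec, hc.1, hc.2]]
    have e5 := M.2
    rw [det_fin_two] at e5
    simp only [cor_mulVec, if_true, h.symm, if_false, map_add, map_mul]
    erw [e1, e2, e3, e4]
    linear_combination (u a * σ (v a) + u b * σ (v b)) * e5
  exact ns_fin h2 hn ((slToMat n K).comp (SU n K q).subtype)
    ((slToMat_injective n).comp Subtype.val_injective)
    (fun z hz => (Form.mem_center_SU_iff hK n (by omega) z).1 hz) hq
    (fun h => key h _ (by simp [coe_qN]) (by simp [coe_qN]) (by simp [coe_qN]) (by simp [coe_qN]))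
    fun h => key h _ ha hb hb ((map_neg σ α).trans (by rw [ha, neg_neg]; rfl))

theorem ns_PSp [Finite K] (h2 : (2 : K) ≠ 0) {m : ℕ} (hm : 2 ≤ m) : NS (PSp m K) := by
  obtain ⟨α, β, hq⟩ := exists_sq_add_sq (K := K)
  have : Finite (symplecticGroup (Fin m) K) := Subtype.finite
  have key : ∀ (i : Fin m) (M : SL(2, K)), ∃ g, (symplecticGroup (Fin m) K).subtype g =
      cor (a := Sum.inl i) (b := Sum.inr i) Sum.inl_ne_inr M := fun i M => by
    refine ⟨⟨cor Sum.inl_ne_inr M, SymplecticGroup.mem_iff.2 ?_⟩, rfl⟩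
    have e5 := M.2
    rw [det_fin_two] at e5
    ext x y
    rw [cor_transpose, mul_cor]
    simp only [cor_mul, transpose_apply]
    rcases x with x | x <;> rcases y with y | y <;>
      simp only [J, fromBlocks_apply₁₁, fromBlocks_apply₁₂, fromBlocks_apply₂₁, fromBlocks_apply₂₂,
        Matrix.one_apply, Matrix.neg_apply, Matrix.zero_apply, Sum.inl.injEq, Sum.inr.injEq,
        reduceCtorEq, if_false, if_true] <;> grind
  refine ns_lin h2 (symplecticGroup (Fin m) K).subtype Subtype.val_injective (fun z hz => ?_)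
    Sum.inl Sum.inr Sum.inl_injective Sum.inr_injective (fun _ _ => Sum.inl_ne_inr)
    (fun x y hx _ => ?_) (fun i => ?_) hq (fun i => key i _) fun i => key i _
  · rcases (Agent.S0246.mem_center_iff z).1 hz with h | h
    · exact ⟨1, by rw [one_smul]; exact h⟩
    · exact ⟨-1, by rw [neg_smul, one_smul]; exact h⟩
  · rcases x with x | x
    · exact absurd rfl (hx x).1
    · exact absurd rfl (hx x).2
  · have : Nontrivial (Fin m) := Fin.nontrivial_iff_two_le.2 hm
    obtain ⟨k, hk⟩ := exists_ne i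
    exact ⟨Sum.inl k, Sum.inl_injective.ne hk, Sum.inl_ne_inr⟩

end Cfsg.Lib.Yam
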