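import Cfsg.Agent.Yam.ExcT
import Cfsg.Agent.Yam.Cls
import Cfsg.Agent.Chev.FoldTwE6
import Cfsg.Agent.Chev.CoreAll
import Cfsg.Agent.Class.PGL2Borel
import Cfsg.Agent.S1059
import Cfsg.Agent.S1067
import Cfsg.Agent.S4278
import Cfsg.Agent.S4279

set_option autoImplicit false
set_option maxRecDepth 100000

namespace Cfsg.Lib.Yam

open Subgroup Cfsg.Lie Cfsg.Lib.Chev Cfsg.Lib.Chev.Core

variable {K : Type*} [Field K]

theorem Frame.ns_sub {D : ChevalleyDatum} (C : Cert D) (R : RootData D) {m : ℕ} {α : Fin m → ℕ}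
    {V X : Fin m → Fin D.rank → ℤ} {Y : Fin D.rank → Fin m → ℤ} (fr : Frame D α V X Y) [Finite K]
    (h2 : (2 : K) ≠ 0) {M : Subgroup (GL D.Idx K)} (hM : M ≤ D.group K) (F : Subfield K)
    (hx : ∀ i, ∀ r ∈ [α i, D.neg (α i)], ∀ t ∈ F, xGL D K r t ∈ M) : NS M := by
  let ι := algebraMap K (AlgebraicClosure K)
  obtain ⟨a, b, h⟩ := exists_sq_add_sq (K := F)
  obtain ⟨ζ, hζ⟩ := IsAlgClosed.exists_pow_nat_eq (-1 : AlgebraicClosure K) two_pos
  exact fr.ns C R h (ι.comp F.subtype) hζ (by rwa [← map_ofNat ι, map_ne_zero])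
    (θ := (mapGL D ι).comp M.subtype) ((mapGL_injective ι).comp Subtype.val_injective)
    (fun g => mapGL_mem_group ι (hM g.2)) fun i r hr t => ⟨⟨_, hx i r hr t t.2⟩, C.mapGL_xGL ι R r t⟩

theorem ns_chev [Finite K] (h2 : (2 : K) ≠ 0) : NS (chevF4.group K) ∧ NS (chevE6.group K) ∧
    NS (chevE7.group K) ∧ NS (chevE8.group K) := by
  obtain ⟨⟨C, R⟩⟩ := cert_root_of_mem (D := chevE7) (by simp)
  obtain ⟨⟨C', R'⟩⟩ := cert_root_of_mem (D := chevE8) (by simp)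
  exact ⟨frF4.ns_sub certF4 rootF4 h2 le_rfl ⊤ fun _ _ _ _ _ => xGL_mem_group _ _,
    frE6.ns_sub certE6 rootE6 h2 le_rfl ⊤ fun _ _ _ _ _ => xGL_mem_group _ _,
    frE7.ns_sub C R h2 le_rfl ⊤ fun _ _ _ _ _ => xGL_mem_group _ _,
    frE8.ns_sub C' R' h2 le_rfl ⊤ fun _ _ _ _ _ => xGL_mem_group _ _⟩

theorem exists_fold_le {D D' : ChevalleyDatum} (C : Cert D) (R : RootData D) (C' : Cert D')
    (R' : RootData D') {fo : List (List (ℕ × ℤ))} (F : Subfield K)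
    (h : ∃ ψ : D'.group F →* D.group F, Function.Injective ψ ∧
      ∀ r, r < D'.nroots → ∀ t, ψ (xG D' F r t) = word (xG D F) (foW fo r t))
    {S : Set (List (ℕ × K))} (hS : ∀ (j : Fin D'.rank), ∀ t ∈ F,
      foW fo (D'.simple j) t ∈ S ∧ foW fo (D'.neg (D'.simple j)) t ∈ S) :
    ∃ ψ : D'.group F →* D.genSubgroup K S, Function.Injective ψ ∧
      ∀ r, r < D'.nroots → ∀ t, ψ (xG D' F r t) = word (xGL D K) (foW fo r (t : K)) := by
  obtain ⟨ψ, h1, h2⟩ := h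
  have h3 : ∀ r, r < D'.nroots → ∀ t, (mapGL D F.subtype).comp ((D.group F).subtype.comp ψ)
      (xG D' F r t) = word (xGL D K) (foW fo r (t : K)) := fun r hr t => by
    rw [MonoidHom.comp_apply, MonoidHom.comp_apply, h2 r hr, Chev.map_word (D.group F).subtype,
      ← F.coe_subtype, ← C.mapGL_word R]
    rfl
  have hp := fun j : Fin D'.rank => R'.simple_lt j j.2
  have h4 := C'.eq_top_of_simple R' (K := (D.genSubgroup K S).comap
    ((mapGL D F.subtype).comp ((D.group F).subtype.comp ψ))) (fun j t => by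
      rw [mem_comap, h3 _ (hp j), C.genSubgroup_eq (R := R)]
      exact subset_closure ⟨_, (hS j t t.2).1, rfl⟩) fun j t => by
      rw [mem_comap, h3 _ (R'.neg_lt (hp j)), C.genSubgroup_eq (R := R)]
      exact subset_closure ⟨_, (hS j t t.2).2, rfl⟩
  exact ⟨MonoidHom.codRestrict _ _ fun g => h4.ge (mem_top g), fun a b e =>
    h1 (Subtype.val_injective (mapGL_injective F.subtype (congrArg Subtype.val e))), h3⟩

theorem exists_sub [Fintype K] {q e : ℕ} (hq : IsPrimePow q) (hK : Fintype.card K = q ^ e) :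
    ∃ F : Subfield K, Nat.card F = q ∧ ∀ t ∈ F, t ^ q = t := by
  obtain ⟨p, n, hp, hn, rfl⟩ := (isPrimePow_nat_iff q).1 hq
  have := Fact.mk hp
  obtain ⟨F, hF⟩ := Class.exists_subfield_card_char_pow (F := K) p hn.ne'
    (Nat.card_eq_fintype_card.trans hK)
  have := Fintype.ofFinite F
  exact ⟨F, hF, fun t ht => by
    rw [← hF, Nat.card_eq_fintype_card]
    exact congrArg Subtype.val (FiniteField.pow_card (⟨t, ht⟩ : F))⟩

theorem ns_twE6 [Fintype K] (h2 : (2 : K) ≠ 0) {q : ℕ} (hq : IsPrimePow q)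
    (hK : Fintype.card K = q ^ 2) : NS (twistedE6 K q) := by
  obtain ⟨F, -, hF⟩ := exists_sub hq hK
  obtain ⟨ψ, -, h⟩ := exists_fold_le certE6 rootE6 certF4 rootF4 F (exists_foldF4 F)
    (S := e6Words K q) (fun j t ht => by
      have e : ∀ j : Fin 4, chevF4.simple j = ![33, 27, 25, 24] j ∧
        chevF4.neg (![33, 27, 25, 24] j) = ![14, 20, 22, 23] j := by decide +kernel
      rw [(e j).1, (e j).2]
      revert j
      refine forall_fin4 ⟨.inr ⟨t, (e6p1, e6p6), ?_, ?_⟩, .inr ⟨t, (e6m1, e6m6), ?_, ?_⟩⟩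
        ⟨.inr ⟨t, (e6p3, e6p5), ?_, ?_⟩, .inr ⟨t, (e6m3, e6m5), ?_, ?_⟩⟩
        ⟨.inl ⟨t, hF t ht, e6p4, ?_, ?_⟩, .inl ⟨t, hF t ht, e6m4, ?_, ?_⟩⟩
        ⟨.inl ⟨t, hF t ht, e6p2, ?_, ?_⟩, .inl ⟨t, hF t ht, e6m2, ?_, ?_⟩⟩ <;>
      simp [foW, foF4, hF t ht, e6p1, e6p2, e6p3, e6p4, e6p5, e6p6, e6m1, e6m2, e6m3, e6m4, e6m5,
        e6m6])
  refine frE6.ns_sub certE6 rootE6 h2 ?_ F fun i r hr t ht => ?_
  · rw [twistedE6, Core.certE6.genSubgroup_eq (R := rootE6), closure_le]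
    rintro _ ⟨w, -, rfl⟩
    exact word_mem _ fun _ _ => xGL_mem_group _ _
  · have e : ∀ i : Fin 4, ∀ r ∈ [![47, 51, 63, 70] i, chevE6.neg (![47, 51, 63, 70] i)],
        ∃ s < 48, ∃ η ∈ [1, -1], foF4.getD s [] = [(r, η)] := by decide +kernel
    obtain ⟨s, hs, η, hη, e⟩ := e i r hr
    have := (ψ (xG chevF4 F s ⟨η * t, mul_mem (intCast_mem F η) ht⟩)).2
    rw [h s hs, foW, e] at this
    simp only [List.mem_cons, List.not_mem_nil, or_false] at hη
    rcases hη with rfl | rfl <;> simpa [twistedE6] using this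

theorem odd_card [Fintype K] (h2 : (2 : K) ≠ 0) : Odd (Fintype.card K) :=
  Nat.odd_iff.2 (FiniteField.odd_card_of_char_ne_two fun h => h2 (by
    simpa [h] using ringChar.Nat.cast_ringChar (R := K)))

theorem ns_G2 [Fintype K] (h2 : (2 : K) ≠ 0) : NS (chevG2.group K) := fun T u hu => by
  obtain ⟨-, L, -, ⟨e⟩, -⟩ := Agent.S4279.result (odd_card h2) u hu
  refine ns_of_four (Agent.S4278.result (odd_card h2)) (x := e.symm (qN K)) ?_ T u hu
  rw [← coe_mul, ← map_mul, orderOf_coe, MulEquiv.orderOf_eq, qN_sq]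
  refine orderOf_eq_prime (neg_one_sq) fun h => h2 ?_
  have : (-1 : K) = 1 := by simpa using congrArg (fun g => g.1 0 0) h
  linear_combination -this

theorem ns_twD4 [Fintype K] (h2 : (2 : K) ≠ 0) {q : ℕ} (hq : IsPrimePow q)
    (hK : Fintype.card K = q ^ 3) : NS (twistedD4 K q) := by
  obtain ⟨F, hF', hF⟩ := exists_sub hq hK
  obtain ⟨ψ, h, -⟩ := exists_fold_le certD4 rootD4 certG2 rootG2 F (exists_foldG2 F)
    (S := d4Words K q) (fun j t ht => by
      have e : ∀ j : Fin 2, chevG2.simple j = ![7, 6] j ∧ chevG2.neg (![7, 6] j) = ![4, 5] j := by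
        decide +kernel
      rw [(e j).1, (e j).2]
      revert j
      refine Fin.forall_fin_two.2 ⟨⟨.inr ⟨t, (d4p1, d4p3, d4p4), ?_, ?_⟩,
        .inr ⟨t, (d4m1, d4m3, d4m4), ?_, ?_⟩⟩,
        ⟨.inl ⟨t, hF t ht, d4p2, ?_, ?_⟩, .inl ⟨t, hF t ht, d4m2, ?_, ?_⟩⟩⟩ <;>
      simp [foW, foG2, hF t ht, d4p1, d4p2, d4p3, d4p4, d4m1, d4m2, d4m3, d4m4, sq, pow_mul])
  have := Fintype.ofFinite F
  rw [Nat.card_eq_fintype_card] at hF'
  have h1 : (2 : F) ≠ 0 := fun e => h2 (congrArg Subtype.val e)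
  have h2 : Odd q := hF' ▸ odd_card h1
  refine (ns_G2 h1).of_odd_index (G := chevD4.genSubgroup K (d4Words K q)) ψ h ?_
  have h3 := ψ.range.card_mul_index
  rw [← Nat.card_congr (MonoidHom.ofInjective h).toEquiv, Agent.S1059.result hF'] at h3
  have h4 := h3.trans (Agent.S1067.result hq hK)
  have h5 : 1 < q := hq.one_lt
  have h6 : ψ.range.index = q ^ 6 * (q ^ 8 + q ^ 4 + 1) := by
    refine Nat.eq_of_mul_eq_mul_left ?_ (h4.trans (by ring))
    have := Nat.one_lt_pow two_ne_zero h5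
    have := Nat.one_lt_pow (n := 6) (by decide) h5
    exact Nat.mul_pos (Nat.mul_pos (by positivity) (by omega)) (by omega)
  rw [h6, ← even_iff_two_dvd, Nat.not_even_iff_odd]
  exact h2.pow.mul ((h2.pow.add_odd h2.pow).add_one)

end Cfsg.Lib.Yam
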