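import Cfsg.Agent.Yam.Defs
import Cfsg.Agent.Class.OrthEich
import Cfsg.Agent.Class.OrthMat
import Cfsg.Agent.Known.QuadDisc

set_option autoImplicit false

namespace Cfsg.Lib.Yam

open Subgroup QuadraticMap Module Cfsg.Lib.Class Cfsg.Lib.Class.Orth Cfsg.Lib.Known

variable {F V : Type*} [Field F] [Finite F] [AddCommGroup V] [Module F V] [FiniteDimensional F V]
  {Q : QuadraticForm F V}

theorem exists_frame (h2 : (2 : F) ≠ 0) (hQ : (polarBilin Q).Nondegenerate) {n : ℕ}
    (hn : finrank F V = n + 1) : ∃ b : Basis (Fin (n + 1)) F V,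
      (∀ i j, i ≠ j → polar Q (b i) (b j) = 0) ∧ (∀ i, i ≠ 0 → Q (b i) = 1) ∧
        (Q (b 0) = 1 ∨ ¬ IsSquare (Q (b 0))) := by
  obtain ⟨d, hd, hd'⟩ : ∃ d : F, SqEq d (2 ^ (n + 1) * disc Q) ∧ (d = 1 ∨ ¬ IsSquare d) := by
    by_cases h : IsSquare (2 ^ (n + 1) * disc Q)
    · exact ⟨1, ((sqEq_one_iff (mul_ne_zero (pow_ne_zero _ h2) (disc_ne_zero hQ))).2 h).symm,
        Or.inl rfl⟩
    · exact ⟨_, SqEq.refl _, Or.inr h⟩
  let w : Fin (n + 1) → F := fun i => if i = 0 then d else 1
  let Q' : QuadraticForm F (Fin (n + 1) → F) := weightedSumSquares F w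
  have h1 : ∀ x, Q' x = ∑ i, w i * (x i * x i) := fun x => weightedSumSquares_apply w x
  have h3 : ∀ i, Q' (Pi.single i 1) = w i := fun i => by
    simp [h1, Pi.single_apply]
  have h4 : ∀ i j, i ≠ j → polar Q' (Pi.single i 1) (Pi.single j 1) = 0 := fun i j e => by
    rw [polar, h3, h3, h1, Fintype.sum_eq_add i j e fun c hc => by simp [hc.1, hc.2]]
    simp [e, e.symm]
  have h5 : (gram Q' fun i => Pi.single i 1).det = 2 ^ (n + 1) * d := by
    rw [show (gram Q' fun i => Pi.single i 1) = Matrix.diagonal fun i => 2 * w i by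
      ext i j
      rw [gram_apply, Matrix.diagonal_apply]
      split_ifs with e
      · rw [e, polar_self', h3]
      · exact h4 i j e, Matrix.det_diagonal, Finset.prod_mul_distrib]
    simp [w]
  have h6 : SqEq (disc Q') (disc Q) := by
    refine (sqEq_disc_single Q').trans (h5 ▸ (hd.mul_left _).trans ?_)
    rw [← mul_assoc]
    exact sqEq_mul_self_mul (pow_ne_zero _ h2) _
  obtain ⟨g, hg⟩ := exists_equiv_of_sqEq_disc h2
    ((disc_ne_zero_iff Q').1 (h6.ne_zero_iff.2 (disc_ne_zero hQ))) hQ (by simp [hn]) h6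
  have h7 : ∀ i, ((Pi.basisFun F _).map g) i = g (Pi.single i 1) := fun i => by simp
  refine ⟨(Pi.basisFun F _).map g, fun i j e => ?_, fun i e => ?_, ?_⟩
  · rw [h7, h7, polar, ← map_add, hg, hg, hg]
    exact h4 i j e
  · rw [h7, hg, h3]
    exact if_neg e
  · rw [h7, hg, h3]
    exact hd'

omit [Finite F] [FiniteDimensional F V] in
theorem refl_comm {x y : V} (h : polar Q y x = 0) : refl Q x * refl Q y = refl Q y * refl Q x := by
  rw [mul_refl, refl_apply_of_orth h]

omit [Finite F] [FiniteDimensional F V] in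
theorem comm_refl {g : O Q} {x : V} (h : g.1 x = x ∨ g.1 x = -x) :
    refl Q x * g = g * refl Q x := by
  rcases h with h | h <;> rw [mul_refl, h]
  rw [refl_neg]

theorem ns_Omega (h2 : (2 : F) ≠ 0) (hQ : (polarBilin Q).Nondegenerate) (hn : 7 ≤ finrank F V) :
    NS (commutator (O Q) ⧸ center (commutator (O Q))) := by
  classical
  obtain ⟨n, hn'⟩ : ∃ n, finrank F V = n + 1 := ⟨finrank F V - 1, by omega⟩
  obtain ⟨b, ho, h1, h0⟩ := exists_frame h2 hQ hn'
  have : Finite V := Module.finite_of_finite F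
  have : Finite (O Q) := Finite.of_injective (fun g : O Q => (g.1 : V → V))
    fun _ _ e => O_ext (congrFun e)
  have hb : ∀ i, Q (b i) ≠ 0 := fun i e => by
    by_cases k : i = 0
    · subst k
      rw [e] at h0
      exact h0.elim zero_ne_one fun k => k IsSquare.zero
    · exact one_ne_zero ((h1 i k).symm.trans e)
  have ext : ∀ {g h : O Q}, (∀ i, g.1 (b i) = h.1 (b i)) → g = h := fun H =>
    Subtype.ext (b.ext' H)
  have rr : ∀ {x y : V}, Q x ≠ 0 → Q x = Q y → refl Q x * refl Q y ∈ commutator (O Q) :=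
    fun hx e => refl_mul_refl_mem_commutator_of_isSquare_iff hQ hx (e ▸ hx) (by rw [e])
  have rb : ∀ i k, (refl Q (b i)).1 (b k) = if k = i then -b k else b k := fun i k => by
    split_ifs with e
    · rw [e, refl_apply_self (hb i)]
    · exact refl_apply_of_orth (ho k i e)
  have r2 : ∀ i j k, i ≠ j → (refl Q (b i) * refl Q (b j)).1 (b k) =
      if k = i ∨ k = j then -b k else b k := fun i j k e => by
    rw [O_mul_apply, rb]
    by_cases a : k = j
    · rw [if_pos a, map_neg, rb, if_neg (a ▸ e.symm), if_pos (Or.inr a)]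
    · rw [if_neg a, rb]
      simp only [a, or_false]
  have avoid : ∀ s : Finset (Fin (n + 1)), s.card ≤ 5 → ∃ k, k ∉ s ∧ Q (b k) = 1 := fun s hs => by
    by_contra e
    have : Finset.univ ⊆ insert 0 s := fun k _ => by
      by_contra e'
      rw [Finset.mem_insert, not_or] at e'
      exact e ⟨k, e'.2, h1 k e'.1⟩
    have := (Finset.card_le_card this).trans (Finset.card_insert_le _ _)
    simp at this
    omega
  let P : Subgroup (commutator (O Q)) :=
    { carrier := {g | ∀ i, g.1.1 (b i) = b i ∨ g.1.1 (b i) = -b i}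
      mul_mem' := fun {g h} hg hh i => by
        rcases hg i with e | e <;> rcases hh i with e' | e' <;> simp [e, e']
      one_mem' := fun i => Or.inl rfl
      inv_mem' := fun {g} hg i => by
        rcases hg i with e | e
        · exact Or.inl (O_inv_apply_of_eq e)
        · exact Or.inr (O_inv_apply_of_eq (by rw [map_neg, e, neg_neg])) }
  have hP : IsPGroup 2 P := fun g => ⟨1, Subtype.ext (Subtype.ext (ext fun i => by
    show g.1.1.1 (g.1.1.1 (b i)) = b i
    rcases g.2 i with e | e <;> simp [e]))⟩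
  refine ns_of_surjective (QuotientGroup.mk' _) (QuotientGroup.mk'_surjective _) hP
    fun u _ _ hc => map_mem_Sq _ ?_
  have co : ∀ x : V, x = ∑ i, (polar Q x (b i) / (2 * Q (b i))) • b i := fun x => by
    conv_lhs => rw [← b.sum_repr x]
    refine Finset.sum_congr rfl fun i _ => ?_
    congr 1
    rw [eq_div_iff (mul_ne_zero h2 (hb i))]
    conv_rhs => rw [← b.sum_repr x, ← polarBilin_apply_apply, map_sum, LinearMap.sum_apply]
    rw [Finset.sum_eq_single i (fun k _ e => by simp [ho k i e]) (by simp)]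
    simp [polar_self']
  have k1 : ∀ i j, i ≠ j → Q (b i) = 1 → Q (b j) = 1 → ∀ k l, (k = i ∨ k = j) → l ≠ i → l ≠ j →
      polar Q (u.1.1 (b k)) (b l) = 0 ∧ polar Q (u.1.1 (b l)) (b k) = 0 := by
    intro i j e hi hj
    let s : commutator (O Q) := ⟨_, rr (hb i) (hi.trans hj.symm)⟩
    have hs : s ∈ P := fun k => by
      show (refl Q (b i) * refl Q (b j)).1 (b k) = _ ∨ (refl Q (b i) * refl Q (b j)).1 (b k) = _
      rw [r2 i j k e]
      split_ifs <;> simp
    have e1 : ∀ k l, polar Q ((s * u).1.1 (b k)) (b l) =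
        (if l = i ∨ l = j then -1 else 1) * polar Q (u.1.1 (b k)) (b l) := fun k l => by
      show polar Q ((refl Q (b i) * refl Q (b j)).1 (u.1.1 (b k))) (b l) = _
      rw [O_polar_left, mul_inv_rev, refl_inv, refl_inv, r2 j i l e.symm]
      simp only [or_comm (a := l = j)]
      split_ifs <;> simp
    have e2 : ∀ k l, polar Q ((u * s).1.1 (b k)) (b l) =
        (if k = i ∨ k = j then -1 else 1) * polar Q (u.1.1 (b k)) (b l) := fun k l => by
      show polar Q (u.1.1 ((refl Q (b i) * refl Q (b j)).1 (b k))) (b l) = _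
      rw [r2 i j k e]
      split_ifs <;> simp
    rcases (mem_center_commutator_iff hQ (not_exc_of_two_ne_zero h2) (by omega)).1
      (QuotientGroup.eq.1 (hc s hs)) with e3 | e3
    · have e4 : s * u = u * s := inv_mul_eq_one.1 (Subtype.ext e3)
      intro k l hk l1 l2
      have a1 := (e1 k l).symm.trans (e4 ▸ e2 k l)
      have a2 := (e1 l k).symm.trans (e4 ▸ e2 l k)
      simp only [hk, l1, l2, or_self, if_true, if_false] at a1 a2
      exact ⟨mul_left_cancel₀ h2 (by linear_combination a1),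
        mul_left_cancel₀ h2 (by linear_combination -a2)⟩
    · exfalso
      have e4 : (u * s).1 = (s * u).1 * negO Q := by
        rw [← e3, ← coe_mul, mul_inv_cancel_left]
      have e5 : ∀ k, k ≠ i → k ≠ j → u.1.1 (b k) = (polar Q (u.1.1 (b k)) (b i) / 2) • b i +
          (polar Q (u.1.1 (b k)) (b j) / 2) • b j := fun k k1 k2 => by
        conv_lhs => rw [co (u.1.1 (b k))]
        rw [Fintype.sum_eq_add i j e fun l hl => ?_, hi, hj, mul_one]
        have a1 := e1 k l
        have a2 := e2 k l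
        rw [e4, O_mul_apply, negO_apply, map_neg, polar_neg_left, a1] at a2
        simp only [k1, k2, hl.1, hl.2, or_self, if_false] at a2
        rw [mul_left_cancel₀ h2 (show 2 * polar Q (u.1.1 (b k)) (b l) = 2 * 0 by
          linear_combination -a2)]
        simp
      obtain ⟨k, hk, qk⟩ := avoid {i, j} (Finset.card_le_two.trans (by decide))
      obtain ⟨l, hl, ql⟩ := avoid {i, j, k} (Finset.card_le_three.trans (by decide))
      obtain ⟨m, hm, qm⟩ := avoid {i, j, k, l} (Finset.card_le_four.trans (by decide))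
      simp only [Finset.mem_insert, Finset.mem_singleton, not_or] at hk hl hm
      have e6 : ∀ k l, k ≠ i → k ≠ j → l ≠ i → l ≠ j → 2 * polar Q (b k) (b l) =
          polar Q (u.1.1 (b k)) (b i) * polar Q (u.1.1 (b l)) (b i) +
            polar Q (u.1.1 (b k)) (b j) * polar Q (u.1.1 (b l)) (b j) := fun k l k1 k2 l1 l2 => by
        rw [← O_polar u.1 (b k) (b l)]
        nth_rw 1 [e5 l l1 l2]
        rw [polar_add_right, polar_smul_right', polar_smul_right']
        field_simp
      have a1 := e6 k l hk.1 hk.2 hl.1 hl.2.1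
      have a2 := e6 k m hk.1 hk.2 hm.1 hm.2.1
      have a3 := e6 l m hl.1 hl.2.1 hm.1 hm.2.1
      have a4 := e6 k k hk.1 hk.2 hk.1 hk.2
      have a5 := e6 l l hl.1 hl.2.1 hl.1 hl.2.1
      have a6 := e6 m m hm.1 hm.2.1 hm.1 hm.2.1
      rw [ho _ _ (Ne.symm hl.2.2)] at a1
      rw [ho _ _ (Ne.symm hm.2.2.1)] at a2
      rw [ho _ _ (Ne.symm hm.2.2.2)] at a3
      rw [polar_self'] at a4 a5 a6
      rw [qk] at a4
      rw [ql] at a5
      rw [qm] at a6
      refine pow_ne_zero 8 h2 ?_
      grind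
  have k2 : ∀ k, u.1.1 (b k) = b k ∨ u.1.1 (b k) = -b k := fun k => by
    have e1 : u.1.1 (b k) = (polar Q (u.1.1 (b k)) (b k) / (2 * Q (b k))) • b k := by
      conv_lhs => rw [co (u.1.1 (b k))]
      refine Finset.sum_eq_single k (fun l _ e => ?_) (by simp)
      obtain ⟨j, hj, qj⟩ := avoid {k, l} (Finset.card_le_two.trans (by decide))
      simp only [Finset.mem_insert, Finset.mem_singleton, not_or] at hj
      by_cases e' : k = 0
      · rw [(k1 l j (Ne.symm hj.2) (h1 l (e' ▸ e)) qj l k (Or.inl rfl) e.symm (Ne.symm hj.1)).2]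
        simp
      · rw [(k1 k j (Ne.symm hj.1) (h1 k e') qj k l (Or.inl rfl) e (Ne.symm hj.2)).1]
        simp
    generalize polar Q (u.1.1 (b k)) (b k) / (2 * Q (b k)) = c at e1
    have e2 := O_map u.1 (b k)
    rw [e1, Q_smul] at e2
    rcases sq_eq_one_iff.1 (mul_right_cancel₀ (hb k) (e2.trans (one_mul _).symm))
      with e3 | e3 <;> simp [e1, e3]
  let T := Finset.univ.filter fun k => u.1.1 (b k) ≠ b k
  have k3 : ∀ k, u.1.1 (b k) = if k ∈ T then -b k else b k := fun k => by
    simp only [T, Finset.mem_filter, Finset.mem_univ, true_and]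
    split_ifs with e
    · exact (k2 k).resolve_left e
    · exact not_not.1 e
  have k4 : ∀ g : O Q, (∀ i ∈ T, g.1 (b i) = -b i) → (∀ i ∉ T, g.1 (b i) = b i) → g = u.1 :=
    fun g e1 e2 => ext fun i => by
      rw [k3]
      split_ifs with e
      · exact e1 i e
      · exact e2 i e
  have k5 : Even T.card := by
    obtain ⟨g, e1, e2, this⟩ := exists_neg_on b hb ho (detO Q) T
    rw [k4 g e1 e2, commutator_le_ker' _ u.2, eq_comm, Finset.prod_congr rfl fun i _ => detO_refl (hb i), Finset.prod_const] at this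
    refine (neg_one_pow_eq_one_iff_even fun e => h2 ?_).1 this
    have := congrArg Units.val e
    simp only [Units.val_neg, Units.val_one] at this
    linear_combination -this
  have k6 : ∀ i ∈ T, Q (b i) = 1 := fun i hi => by
    by_contra e
    obtain rfl : i = 0 := by_contra fun e' => e (h1 i e')
    obtain ⟨g, e1, e2, this⟩ := exists_neg_on b hb ho (spin hQ h2) T
    rw [k4 g e1 e2, commutator_le_ker' _ u.2, Finset.prod_eq_single_of_mem 0 hi fun k _ e' =>
      spin_refl_of_isSquare hQ h2 (hb k) (h1 k e' ▸ IsSquare.one),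
      spin_refl_of_not_isSquare hQ h2 (h0.resolve_left e)] at this
    exact absurd this (by decide)
  have k7 : ∀ i ∈ T, ∀ j ∈ T, i ≠ j →
      refl Q (b i) * refl Q (b j) ∈ (Sq u).map (commutator (O Q)).subtype := fun i hi j hj e => by
    obtain ⟨k, l, m, hk, hl, hm, kl, km, lm, qk, ql, qm, hs⟩ : ∃ k l m,
        (k ≠ i ∧ k ≠ j) ∧ (l ≠ i ∧ l ≠ j) ∧ (m ≠ i ∧ m ≠ j) ∧ k ≠ l ∧ k ≠ m ∧ l ≠ m ∧
          Q (b k) = 1 ∧ Q (b l) = 1 ∧ Q (b m) = 1 ∧ (l ∈ T ↔ m ∈ T) := by
      obtain ⟨k, hk, qk⟩ := avoid {i, j} (Finset.card_le_two.trans (by decide))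
      obtain ⟨l, hl, ql⟩ := avoid {i, j, k} (Finset.card_le_three.trans (by decide))
      obtain ⟨m, hm, qm⟩ := avoid {i, j, k, l} (Finset.card_le_four.trans (by decide))
      simp only [Finset.mem_insert, Finset.mem_singleton, not_or] at hk hl hm
      by_cases a1 : l ∈ T ↔ m ∈ T
      · exact ⟨k, l, m, by grind⟩
      by_cases a2 : k ∈ T ↔ m ∈ T
      · exact ⟨l, k, m, by grind⟩
      · exact ⟨m, k, l, by grind⟩
    have qi := k6 i hi
    have qj := k6 j hj
    have q1 : Q (b i - b j) = 2 := by rw [Q_sub, qi, qj, ho i j e]; ring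
    have q2 : Q (b l - b m) = 2 := by rw [Q_sub, ql, qm, ho l m lm]; ring
    have c1 := refl_comm (ho k i hk.1)
    have c2 : refl Q (b k) * refl Q (b i - b j) = refl Q (b i - b j) * refl Q (b k) :=
      refl_comm (by rw [polar_sub_left, ho i k hk.1.symm, ho j k hk.2.symm, sub_zero])
    have c3 : refl Q (b i) * refl Q (b l - b m) = refl Q (b l - b m) * refl Q (b i) :=
      refl_comm (by rw [polar_sub_left, ho l i hl.1, ho m i hm.1, sub_zero])
    have c4 : refl Q (b k) * refl Q (b l - b m) = refl Q (b l - b m) * refl Q (b k) :=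
      refl_comm (by rw [polar_sub_left, ho l k kl.symm, ho m k km.symm, sub_zero])
    have c5 : refl Q (b i - b j) * refl Q (b l - b m) = refl Q (b l - b m) * refl Q (b i - b j) :=
      refl_comm (by
        rw [polar_sub_left, polar_sub_right, polar_sub_right, ho l i hl.1, ho m i hm.1,
          ho l j hl.2, ho m j hm.2]; ring)
    have c6 : refl Q (b i - b j) * refl Q (b i) = refl Q (b j) * refl Q (b i - b j) := by
      rw [mul_refl, refl_sub_apply (qi.trans qj.symm) (q1 ▸ h2)]
    have d1 : Commute (refl Q (b i)) u.1 := comm_refl (k2 i)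
    have d2 : Commute (refl Q (b k)) u.1 := comm_refl (k2 k)
    have d3 : Commute (refl Q (b i - b j)) u.1 := comm_refl (Or.inr (by
      rw [map_sub, k3, k3, if_pos hi, if_pos hj]; abel))
    have d4 : Commute (refl Q (b l - b m)) u.1 := comm_refl (by
      rw [map_sub, k3, k3]
      by_cases a : l ∈ T
      · rw [if_pos a, if_pos (hs.1 a)]; right; abel
      · rw [if_neg a, if_neg fun a' => a (hs.2 a')]; left; rfl)
    refine ⟨_, sq_mem (x := ⟨_, mul_mem (rr (hb i) (qi.trans qk.symm))
      (rr (q1 ▸ h2) (q1.trans q2.symm))⟩)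
      (Subtype.ext ((d1.mul_left d2).mul_left (d3.mul_left d4)).eq), ?_⟩
    have a1 := refl_mul_self (Q := Q) (b k)
    have a2 := refl_mul_self (Q := Q) (b i - b j)
    have a3 := refl_mul_self (Q := Q) (b l - b m)
    show refl Q (b i) * refl Q (b k) * (refl Q (b i - b j) * refl Q (b l - b m)) *
      (refl Q (b i) * refl Q (b k) * (refl Q (b i - b j) * refl Q (b l - b m))) = _
    generalize refl Q (b i) = I at *
    generalize refl Q (b j) = J at *
    generalize refl Q (b k) = K at *
    generalize refl Q (b i - b j) = X at *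
    generalize refl Q (b l - b m) = Y at *
    have g1 : Commute (K * Y) (I * X) := (Commute.mul_right c1.symm c2).mul_left
      (Commute.mul_right c3.symm c5.symm)
    calc I * K * (X * Y) * (I * K * (X * Y)) = I * (K * X) * Y * (I * (K * X) * Y) := by group
      _ = I * X * ((K * Y) * (I * X)) * (K * Y) := by rw [c2]; group
      _ = I * (X * I) * X * (K * (Y * K) * Y) := by rw [g1.eq]; group
      _ = I * J * (X * X) * ((K * K) * (Y * Y)) := by rw [c6, ← c4]; group
      _ = I * J := by rw [a1, a2, a3]; group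
  have k8 : ∀ (c : ℕ) (S : Finset (Fin (n + 1))), S.card = 2 * c → S ⊆ T →
      ∃ y ∈ (Sq u).map (commutator (O Q)).subtype,
        ∀ k, y.1 (b k) = if k ∈ S then -b k else b k := fun c => by
    induction c with
    | zero =>
      intro S hS _
      exact ⟨1, one_mem _, fun k => by simp [Finset.card_eq_zero.1 hS]⟩
    | succ c ih =>
      intro S hS hT
      obtain ⟨i, hi, j, hj, e⟩ := Finset.one_lt_card.1 (show 1 < S.card by omega)
      obtain ⟨y, hy, e1⟩ := ih ((S.erase i).erase j) (by
        rw [Finset.card_erase_of_mem (Finset.mem_erase.2 ⟨e.symm, hj⟩),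
          Finset.card_erase_of_mem hi]; omega)
        (((Finset.erase_subset _ _).trans (Finset.erase_subset _ _)).trans hT)
      refine ⟨_, mul_mem hy (k7 i (hT hi) j (hT hj) e), fun k => ?_⟩
      rw [O_mul_apply, r2 i j k e]
      by_cases a : k = i ∨ k = j
      · rw [if_pos a, map_neg, e1, if_neg (by simp; tauto),
          if_pos (by rcases a with rfl | rfl <;> assumption)]
      · rw [if_neg a, e1]
        rw [not_or] at a
        simp [a.1, a.2]
  obtain ⟨c, hc⟩ := k5
  obtain ⟨_, ⟨y, hy, rfl⟩, e⟩ := k8 c T (by omega) subset_rfl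
  rwa [show y = u from Subtype.ext (ext fun k => (e k).trans (k3 k).symm)] at hy

theorem ns_POmega {ι : Type} [Fintype ι] [DecidableEq ι] {Q : QuadraticForm F (ι → F)}
    {P : (ι → F) → F} (hP : ⇑Q = P) (h2 : (2 : F) ≠ 0) (hQ : (polarBilin Q).Nondegenerate)
    (hn : 7 ≤ Fintype.card ι) : NS (POmega F P) :=
  hP ▸ (ns_Omega h2 hQ (by simpa using hn)).of_equiv (pomegaEquiv Q)

end Cfsg.Lib.Yam
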