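import Cfsg.Agent.Local.KleinDich

set_option autoImplicit false

namespace Cfsg.Lib.Yam

open Subgroup
open scoped Pointwise

variable {G : Type*} [Group G]

/-- The subgroup generated by the squares of the elements commuting with `u`. -/
def Sq (u : G) : Subgroup G := closure {y | ∃ x, x * u = u * x ∧ y = x * x}

theorem Sq_eq_1' : type_of% @Sq.eq_1 := @Sq.eq_1

theorem sq_mem {u x : G} (h : x * u = u * x) : x * x ∈ Sq u := subset_closure ⟨x, h, rfl⟩

theorem mem_Sq_of_eq {u x : G} (h : u = x * x) : u ∈ Sq u := by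
  have : x * x ∈ Sq u := sq_mem (by rw [h, mul_assoc])
  rwa [← h] at this

theorem map_mem_Sq {H : Type*} [Group H] (f : G →* H) {u y : G} (hy : y ∈ Sq u) :
    f y ∈ Sq (f u) := by
  have : Sq u ≤ (Sq (f u)).comap f := (closure_le _).2 (by
    rintro _ ⟨x, hx, rfl⟩
    show f (x * x) ∈ Sq (f u)
    rw [map_mul]
    exact sq_mem (by rw [← map_mul, hx, map_mul]))
  exact this hy

theorem mem_Sq_of_conj {u g : G} (h : g * u * g⁻¹ ∈ Sq (g * u * g⁻¹)) : u ∈ Sq u := by
  have := map_mem_Sq (MulAut.conj g⁻¹).toMonoidHom h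
  simpa [mul_assoc] using this

theorem Sq_le {u : G} {K : Subgroup G} (h : ∀ x, x * u = u * x → x * x ∈ K) : Sq u ≤ K :=
  (closure_le _).2 (by rintro _ ⟨x, hx, rfl⟩; exact h x hx)

variable (G) in
/-- Every `2`-central involution is a product of squares of elements commuting with it. -/
def NS : Prop := ∀ (T : Sylow 2 G) (u : G), orderOf u = 2 →
  (∀ s ∈ (T : Subgroup G), s * u = u * s) → u ∈ Sq u

theorem NS_eq_1' : type_of% @NS.eq_1 := @NS.eq_1

theorem ns_of_all (h : ∀ u : G, orderOf u = 2 → u ∈ Sq u) : NS G := fun _ u hu _ => h u hu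

theorem ns_of [Finite G] {P : Subgroup G} (hP : IsPGroup 2 P)
    (h : ∀ u : G, orderOf u = 2 → (∀ s ∈ P, s * u = u * s) → u ∈ Sq u) : NS G := by
  intro T u hu hT
  obtain ⟨Q, hQ⟩ := hP.exists_le_sylow
  obtain ⟨g, rfl⟩ := MulAction.exists_smul_eq G T Q
  refine mem_Sq_of_conj (g := g) (h _ ?_ fun s hs => ?_)
  · rw [← MulAut.conj_apply, MulEquiv.orderOf_eq, hu]
  · have h1 := hQ hs
    rw [Sylow.coe_subgroup_smul, mem_pointwise_smul_iff_inv_smul_mem, ← map_inv, MulAut.smul_def,
      MulAut.conj_apply, inv_inv] at h1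
    have h2 := hT _ h1
    calc s * (g * u * g⁻¹) = g * (g⁻¹ * s * g * u) * g⁻¹ := by group
      _ = g * u * g⁻¹ * s := by rw [h2]; group

theorem NS.of_equiv {H : Type*} [Group H] [Finite G] (h : NS H) (e : G ≃* H) : NS G := by
  have : Finite H := Finite.of_equiv G e.toEquiv
  obtain ⟨T⟩ : Nonempty (Sylow 2 H) := inferInstance
  refine ns_of (P := (T : Subgroup H).map e.symm.toMonoidHom) (T.isPGroup'.map _) fun u hu hT => ?_
  have h1 := h T (e u) (by rw [MulEquiv.orderOf_eq, hu]) fun s hs => by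
    have := congrArg e (hT (e.symm s) ⟨s, hs, rfl⟩)
    simpa using this
  simpa using map_mem_Sq e.symm.toMonoidHom h1

/-- An element of order two centralising a Sylow `2`-subgroup lies in it. -/
theorem mem_sylow [Finite G] (T : Sylow 2 G) {u : G} (hu : u * u = 1)
    (h : ∀ s ∈ (T : Subgroup G), s * u = u * s) : u ∈ (T : Subgroup G) := by
  have h1 : IsPGroup 2 (zpowers u) := by
    rintro ⟨_, n, rfl⟩
    refine ⟨1, Subtype.ext ?_⟩
    show (u ^ n) ^ 2 ^ 1 = 1
    rw [pow_one, ← zpow_natCast, ← zpow_mul, mul_comm, zpow_mul, zpow_natCast, sq, hu, one_zpow]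
  have h2 : (T : Subgroup G) ≤ normalizer (zpowers u : Set G) := fun s hs =>
    centralizer_le_normalizer _ (by
      rw [mem_centralizer_iff]
      rintro _ ⟨n, rfl⟩
      exact (Commute.zpow_left (show Commute u s from (h s hs).symm) n).eq)
  have h3 := IsPGroup.to_sup_of_normal_left' h1 T.isPGroup' h2
  have h4 := T.is_maximal' h3 le_sup_right
  exact h4.le (mem_sup_left (mem_zpowers u))

theorem NS.of_odd_index [Finite G] {H : Type*} [Group H] (h : NS H) (f : H →* G)
    (hf : Function.Injective f) (hi : ¬ 2 ∣ f.range.index) : NS G := by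
  have : Finite H := Finite.of_injective f hf
  obtain ⟨T⟩ : Nonempty (Sylow 2 H) := inferInstance
  have h1 : ¬ 2 ∣ ((T : Subgroup H).map f).index := by
    rw [index_map_of_injective _ hf]
    exact Nat.prime_two.not_dvd_mul T.not_dvd_index hi
  let Q : Sylow 2 G := (T.isPGroup'.map f).toSylow h1
  refine ns_of (T.isPGroup'.map f) fun u hu hT => ?_
  obtain ⟨v, -, rfl⟩ := mem_sylow Q (by rw [← sq, ← hu, pow_orderOf_eq_one]) hT
  refine map_mem_Sq f (h T v (by rw [← orderOf_injective f hf, hu]) fun s hs => hf ?_)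
  rw [map_mul, map_mul]
  exact hT _ ⟨s, hs, rfl⟩

theorem ns_of_four (h1 : ∀ s t : G, orderOf s = 2 → orderOf t = 2 → IsConj s t) {x : G}
    (hx : orderOf (x * x) = 2) : NS G := ns_of_all fun u hu => by
  obtain ⟨g, hg⟩ := isConj_iff.1 (h1 _ _ hx hu)
  exact mem_Sq_of_eq (x := g * x * g⁻¹) (by rw [← hg]; group)

/-- Passing to a quotient. -/
theorem ns_of_surjective {H : Type*} [Group H] [Finite G] (f : H →* G) (hf : Function.Surjective f)
    {P : Subgroup H} (hP : IsPGroup 2 P)
    (h : ∀ u : H, f u ≠ 1 → f (u * u) = 1 → (∀ s ∈ P, f (s * u) = f (u * s)) →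
      f u ∈ Sq (f u)) : NS G := by
  refine ns_of (hP.map f) fun u hu hT => ?_
  obtain ⟨v, rfl⟩ := hf u
  refine h v (fun e => by simp [e] at hu) (by rw [map_mul, ← sq, ← hu, pow_orderOf_eq_one])
    fun s hs => ?_
  rw [map_mul, map_mul]
  exact hT _ ⟨s, hs, rfl⟩

end Cfsg.Lib.Yam
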