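import Cfsg.Agent.Yam.Q8
import Cfsg.Agent.Chev.Cent
import Cfsg.Agent.Chev.CoreSL2Root

set_option autoImplicit false

namespace Cfsg.Lib.Yam

open Subgroup Cfsg.Lie Cfsg.Lib.Chev Cfsg.Lib.Chev.Core
open scoped MatrixGroups

/-- A frame of strongly orthogonal roots, with certificates. -/
structure Frame (D : ChevalleyDatum) {m : ℕ} (α : Fin m → ℕ) (V X : Fin m → Fin D.rank → ℤ)
    (Y : Fin D.rank → Fin m → ℤ) : Prop where
  lt : ∀ i, α i < D.nroots
  orth : ∀ i l, i ≠ l → ∀ r ∈ [α i, D.neg (α i)], ∀ s ∈ [α l, D.neg (α l)],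
    s ≠ D.neg r ∧ D.chainRoot r s 1 = none
  reg : ∀ s < D.nroots, ∃ i, ¬ 4 ∣ D.pairing (α i) s
  pos : ∀ j : Fin D.rank, ∀ s < D.nroots / 2,
    ∃ i, ¬ 4 ∣ D.pairing (α i) s - D.pairing (α i) (D.simple j)
  odd : ∀ i, ∃ j : Fin D.rank, D.pairing (α i) (D.simple j) % 2 = 1
  rc : ∀ i (l : Fin D.rank), D.cartan l (α i) = ∑ j : Fin D.rank, V i j * D.cartan l (D.simple j)
  cert : ∀ j l : Fin D.rank, 2 ∣ (if j = l then 1 else 0) -
    ∑ i, D.pairing (α i) (D.simple j) * X i l - ∑ i, Y j i * V i l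

variable {D : ChevalleyDatum} {k : Type*} [Field k]

theorem rc_eq_of_cartan (R : RootData D) {r : ℕ} (hr : r < D.nroots) {v : Fin D.rank → ℤ}
    (h : ∀ l : Fin D.rank, D.cartan l r = ∑ j : Fin D.rank, v j * D.cartan l (D.simple j)) :
    R.rc r = v := by
  refine sub_eq_zero.1 (R.eq_zero_of_form_self _ (Finset.sum_eq_zero fun i _ => ?_))
  have := (R.cartan_eq i r hr).symm.trans (h i)
  simp only [mul_assoc, ← Finset.mul_sum, Pi.sub_apply, sub_mul, Finset.sum_sub_distrib]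
  simp only [← mul_assoc, ← Finset.sum_mul, this, sub_self, mul_zero]

theorem eq_prod_of_cert {ι : Type} {κ M : Type*} [Fintype ι] [DecidableEq ι] [Fintype κ] [CommGroup M]
    {P V X : κ → ι → ℤ} {Y : ι → κ → ℤ} (h : ∀ j l, 2 ∣ (if j = l then 1 else 0) -
      ∑ i, P i j * X i l - ∑ i, Y j i * V i l) {c : ι → M} (hc : c * c = 1)
    (hV : ∀ i, chr c (V i) = 1) (j : ι) : c j = ∏ i, chr c (X i) ^ P i j := by
  choose e he using h
  have h1 : Pi.single j 1 = (2 : ℤ) • e j + (∑ i, P i j • X i + ∑ i, Y j i • V i) := by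
    funext l
    simp only [Pi.add_apply, Finset.sum_apply, Pi.smul_apply, smul_eq_mul, Pi.single_apply, ← he,
      eq_comm (a := l)]
    ring
  rw [← chr_single c j, h1, chr_add, chr_add, chr_smul, WeylData.chr_sum, WeylData.chr_sum, zpow_two, ← chr_mul,
    hc, chr_one]
  simp only [chr_smul, hV, one_zpow, Finset.prod_const_one, mul_one, one_mul]

/-- The matrix diagonalising the first quaternion generator. -/
def qP {ζ : k} (hζ : ζ ^ 2 = -1) (h2 : (2 : k) ≠ 0) : SL(2, k) :=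
  ⟨!![1, ζ / 2; ζ, 1 / 2], by rw [Matrix.det_fin_two_of]; field_simp; linear_combination -hζ⟩

theorem qP_eq_1' : type_of% @qP.eq_1 := @qP.eq_1

theorem qP_N {ζ : k} (hζ : ζ ^ 2 = -1) (h2 : (2 : k) ≠ 0) :
    (((qP hζ h2)⁻¹ * qN k * qP hζ h2 : SL(2, k)) : Matrix (Fin 2) (Fin 2) k) = !![ζ, 0; 0, ζ⁻¹] := by
  have h1 : ζ⁻¹ = -ζ := inv_eq_of_mul_eq_one_right (by linear_combination -hζ)
  rw [Matrix.SpecialLinearGroup.SL2_inv_expl, h1]
  change (!![1 / 2, -(ζ / 2); -ζ, 1] : Matrix (Fin 2) (Fin 2) k) * !![0, 1; -1, 0] *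
    !![1, ζ / 2; ζ, 1 / 2] = _
  ext i j
  fin_cases i <;> fin_cases j <;> simp <;> field_simp <;>
    first | ring1 | linear_combination hζ | linear_combination -hζ

theorem qP_J {ζ : k} (hζ : ζ ^ 2 = -1) (h2 : (2 : k) ≠ 0) {a b : k} (h : a ^ 2 + b ^ 2 = -1) :
    ∃ t : k, t ≠ 0 ∧ (qP hζ h2)⁻¹ * qJ h * qP hζ h2 = sl2U t * sl2V (-t⁻¹) * sl2U t := by
  have h1 : ∀ i, ((qP hζ h2)⁻¹ * qJ h * qP hζ h2) i i = 0 := fun i => by
    rw [Matrix.SpecialLinearGroup.SL2_inv_expl]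
    change ((!![1 / 2, -(ζ / 2); -ζ, 1] : Matrix (Fin 2) (Fin 2) k) * !![a, b; b, -a] *
      !![1, ζ / 2; ζ, 1 / 2]) i i = 0
    fin_cases i <;> simp <;> field_simp <;>
      first | linear_combination a * hζ | linear_combination (-a) * hζ
  generalize (qP hζ h2)⁻¹ * qJ h * qP hζ h2 = g at h1
  have h3 := sl2_det g
  rw [h1, h1, mul_zero, zero_sub, neg_mul_eq_mul_neg] at h3
  have h4 := left_ne_zero_of_mul_eq_one h3
  refine ⟨_, h4, ?_⟩
  apply sl2_ext <;> simp only [sl2_mul_apply] <;> simp [sl2U, sl2V, h1, h4]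
  rw [inv_eq_of_mul_eq_one_right h3, neg_neg]

theorem map_sl2 {F : Type*} [Field F] (ι : F →+* k) {x : SL(2, F)} {y : SL(2, k)}
    (h : ∀ i j, ι (x i j) = y i j) : Matrix.SpecialLinearGroup.map ι x = y :=
  Matrix.SpecialLinearGroup.ext _ _ h

theorem orderOf_of_sq {ζ : kˣ} (hζ : (ζ : k) ^ 2 = -1) (h2 : (2 : k) ≠ 0) : orderOf ζ = 4 := by
  have h1 : ζ ^ 2 = -1 := Units.ext hζ
  refine orderOf_eq_prime_pow (p := 2) (n := 1) (fun e => h2 ?_) ?_
  · have : (-1 : k) = 1 := congrArg Units.val (h1.symm.trans e)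
    linear_combination -this
  · rw [show 2 ^ (1 + 1) = 2 * 2 from rfl, pow_mul, h1, neg_one_sq]

variable (C : Cert D) (R : RootData D) {m : ℕ} {α : Fin m → ℕ} {V X : Fin m → Fin D.rank → ℤ}
  {Y : Fin D.rank → Fin m → ℤ} (fr : Frame D α V X Y)
include C R fr

theorem Frame.commute {i l : Fin m} (h : i ≠ l) (x y : SL(2, k)) :
    Commute ((C.stRelN k R).sl2Hom R (fr.lt i) x) ((C.stRelN k R).sl2Hom R (fr.lt l) y) := by
  have hr : ∀ i, ∀ r ∈ [α i, D.neg (α i)], r < D.nroots := fun i => by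
    simp [fr.lt i, R.neg_lt (fr.lt i)]
  have key : ∀ (i : Fin m) (g : GL D.Idx k), (∀ r ∈ [α i, D.neg (α i)], ∀ t, Commute g (xGL D k r t)) →
      ∀ x, Commute g ((C.stRelN k R).sl2Hom R (fr.lt i) x) := fun i g hg x => by
    have : (centralizer {g}).comap ((C.stRelN k R).sl2Hom R (fr.lt i)) = ⊤ :=
      sl2_subgroup_eq_top _ (fun t => by
        rw [mem_comap, StRelN.sl2Hom_U, mem_centralizer_singleton_iff]
        exact (hg _ (by simp) t).symm.eq) fun t => by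
        rw [mem_comap, StRelN.sl2Hom_V, mem_centralizer_singleton_iff]
        exact (hg _ (by simp) t).symm.eq
    exact Commute.symm (mem_centralizer_singleton_iff.1 (this.ge (mem_top x)))
  refine key l _ (fun s hs u => (key i _ (fun r hr' t => ?_) x).symm) y
  obtain ⟨h1, h2⟩ := fr.orth i l h r hr' s hs
  exact ((C.stRelN k R).toStRel.commute R (hr i r hr') (hr l s hs) h1 h2 t u).symm

theorem Frame.mem_of_commute {ζ : kˣ} (hζ : orderOf ζ = 4) {g : GL D.Idx k}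
    (hg : g ∈ (C.Yhat k R).G0) (hgg : g * g = 1) (h1 : ∀ i, Commute g (hel D (xGL D k) (α i) ζ))
    {t : k} (ht : t ≠ 0) (h2 : ∀ i, Commute g (nel D (xGL D k) (α i) t)) {K : Subgroup (GL D.Idx k)}
    (hK : ∀ i, hel D (xGL D k) (α i) (-1) ∈ K) : g ∈ K := by
  obtain ⟨c, rfl⟩ := C.mem_range_of_regular R (S := Set.range fun i => hchar D (α i) ζ)
    (Set.eq_empty_of_forall_notMem fun r hr => by
      obtain ⟨i, hi⟩ := fr.reg r (R.weyl_mem.1 hr.1)
      have := hr.2 _ ⟨i, rfl⟩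
      rw [RootData.weyl_rc, R.chr_hchar _ _ (R.weyl_mem.1 hr.1), ← orderOf_dvd_iff_zpow_eq_one,
        hζ] at this
      exact hi this)
    (fun w hw => R.weyl.st_eq_one_of_pos fun j => by
      have h3 := R.weyl_smul_lt w (R.simple_lt j j.2)
      refine R.weyl_pos.2 ((R.pos_iff _).2 ⟨not_lt.1 fun h4 => ?_, h3⟩)
      obtain ⟨i, hi⟩ := fr.pos j _ h4
      have := R.weyl.chr_tor_smul w (hchar D (α i) ζ) (R.weyl_mem.2 (R.simple_lt j j.2))
      rw [hw _ ⟨i, rfl⟩, RootData.weyl_rc, R.chr_hchar _ _ h3,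
        R.chr_hchar _ _ (R.simple_lt j j.2), ← orderOf_dvd_sub_iff_zpow_eq_zpow, hζ] at this
      exact hi this) hg (by
      rintro _ ⟨i, rfl⟩
      rw [← C.hel_eq_torGL R (fr.lt i)]
      exact (h1 i).symm.eq)
  have hc : c * c = 1 := torGL_injective R (by rw [map_mul, hgg, map_one])
  have h3 : ∀ v, chr c v * chr c v = 1 := fun v => by rw [← chr_mul, hc, chr_one]
  have h4 : ∀ i, chr c (V i) = 1 := fun i => by
    have h5 := (C.actsBy_torGL R c).conj_nel (fr.lt i) t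
    rw [(h2 i).eq, mul_inv_cancel_right, rc_eq_of_cartan R (fr.lt i) (fr.rc i)] at h5
    have h6 := (C.stRelN k R).nel_mul_nel_inv R (fr.lt i) (chr c (V i)).ne_zero ht
    rw [← h5, mul_inv_cancel, C.hel_eq_torGL R (fr.lt i), ← map_one (torGL R k)] at h6
    obtain ⟨j, hj⟩ := fr.odd i
    have h7 : 1 = chr c (V i) ^ D.pairing (α i) (D.simple j) := congrFun (torGL_injective R h6) j
    rw [← Int.emod_add_mul_ediv (D.pairing _ _) 2, hj, zpow_add, zpow_mul, zpow_two, h3] at h7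
    simpa using h7.symm
  have h5 : c = ∏ i, hchar D (α i) (chr c (X i)) := funext fun j => by
    rw [Finset.prod_apply]
    exact eq_prod_of_cert fr.cert hc h4 j
  rw [← mem_comap, h5]
  refine prod_mem fun i _ => ?_
  rw [mem_comap, ← C.hel_eq_torGL R (fr.lt i)]
  rcases mul_self_eq_one_iff.1 (congrArg Units.val (h3 (X i))) with e | e <;> rw [e]
  · rw [(C.stRelN k R).toStRel.hel_one R (fr.lt i)]
    exact one_mem _
  · exact hK i

theorem Frame.ns {G F : Type*} [Group G] [Finite G] [Field F] {a b : F} (h : a ^ 2 + b ^ 2 = -1)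
    (ι : F →+* k) {ζ : k} (hζ : ζ ^ 2 = -1) (h2 : (2 : k) ≠ 0) {θ : G →* GL D.Idx k}
    (hθ : Function.Injective θ) (hG : ∀ g, θ g ∈ D.group k)
    (hx : ∀ i, ∀ r ∈ [α i, D.neg (α i)], ∀ t, xGL D k r (ι t) ∈ θ.range) : NS G := by
  classical
  let φ := fun i => (C.stRelN k R).sl2Hom R (fr.lt i)
  have h' : ι a ^ 2 + ι b ^ 2 = -1 := by rw [← map_pow, ← map_pow, ← map_add, h, map_neg, map_one]
  have h1 : ∀ i x, φ i (Matrix.SpecialLinearGroup.map ι x) ∈ θ.range := fun i x => by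
    have : θ.range.comap ((φ i).comp (Matrix.SpecialLinearGroup.map ι)) = ⊤ :=
      sl2_subgroup_eq_top _ (fun t => by
        rw [mem_comap, MonoidHom.comp_apply, map_sl2 ι (y := sl2U (ι t)) (by simp [sl2U]),
          StRelN.sl2Hom_U]
        exact hx i _ (by simp) t) fun t => by
        rw [mem_comap, MonoidHom.comp_apply, map_sl2 ι (y := sl2V (ι t)) (by simp [sl2V]),
          StRelN.sl2Hom_V]
        exact hx i _ (by simp) t
    exact this.ge (mem_top x)
  have h3 : ∀ i, φ i (qN k) ∈ θ.range := fun i =>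
    map_sl2 ι (x := qN F) (y := qN k) (by simp [qN]) ▸ h1 i _
  have h4 : ∀ i, φ i (qJ h') ∈ θ.range := fun i =>
    map_sl2 ι (x := qJ h) (y := qJ h') (by simp [qJ]) ▸ h1 i _
  choose n hn using h3
  choose j hj using h4
  have hc : Pairwise fun i l => ∀ x y, Commute (φ i x) (φ l y) := fun i l e => fr.commute C R e
  obtain ⟨P, hP, hnP, hjP⟩ := exists_pgroup hθ φ (fun i l e x y => (hc e x y).eq) h' hn hj
  refine ns_of hP fun u hu hT => ?_
  let Φ := MonoidHom.noncommPiCoprod φ hc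
  have h5 : ∀ i x, (Φ fun _ => qP hζ h2)⁻¹ * φ i x * (Φ fun _ => qP hζ h2) =
      φ i ((qP hζ h2)⁻¹ * x * qP hζ h2) := fun i x => by
    rw [← MonoidHom.noncommPiCoprod_mulSingle φ (hcomm := hc), ← map_inv, ← map_mul, ← map_mul,
      ← MonoidHom.noncommPiCoprod_mulSingle φ (hcomm := hc)]
    congr 1
    funext l
    by_cases e : l = i
    · subst e
      simp
    · simp [e]
  have h6 : (Φ fun _ => qP hζ h2) ∈ D.group k := by
    have : Φ.range ≤ D.group k := by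
      rw [MonoidHom.noncommPiCoprod_range]
      refine iSup_le fun i => ?_
      rw [StRelN.range_sl2Hom]
      refine sup_le ?_ ?_ <;> refine (closure_le _).2 ?_ <;> rintro _ ⟨t, rfl⟩ <;>
        exact C.xGL_mem_group R _ t
    exact this ⟨_, rfl⟩
  generalize (Φ fun _ => qP hζ h2) = y at h5 h6
  have h7 : ∀ s ∈ P, Commute (y⁻¹ * θ u * y) (y⁻¹ * θ s * y) := fun s hs => by
    have := (Commute.map (hT s hs) ((MulAut.conj y⁻¹).toMonoidHom.comp θ)).symm
    simpa using this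
  obtain ⟨t, ht, e⟩ := qP_J hζ h2 h'
  have hζ0 : ζ ≠ 0 := by
    rintro rfl
    simp at hζ
  have h8 := fr.mem_of_commute C R (ζ := Units.mk0 ζ hζ0) (orderOf_of_sq hζ h2)
    ((C.Yhat_G0 R).ge (mem_sup_left (mul_mem (mul_mem (inv_mem h6) (hG u)) h6)))
    (by rw [show y⁻¹ * θ u * y * (y⁻¹ * θ u * y) = y⁻¹ * θ (u * u) * y by rw [map_mul]; group,
      ← sq, ← hu, pow_orderOf_eq_one]; simp)
    (fun i => by
      have := h7 _ (hnP i)
      rwa [hn, h5, StRelN.sl2Hom_diag _ R _ (qP_N hζ h2)] at this) ht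
    (fun i => by
      have := h7 _ (hjP i)
      rwa [hj, h5, e, map_mul, map_mul, StRelN.sl2Hom_U, StRelN.sl2Hom_V] at this)
    (K := (Sq u).map ((MulAut.conj y⁻¹).toMonoidHom.comp θ)) fun i =>
      ⟨_, sq_mem (hT _ (hnP i)), by
        have := h5 i (-1)
        rw [mul_neg, neg_mul, mul_one, inv_mul_cancel] at this
        rw [← StRelN.sl2Hom_diag (C.stRelN k R) R (fr.lt i) (g := -1)
          (by ext i j; fin_cases i <;> fin_cases j <;> simp), ← this, ← qN_sq, map_mul (φ i), ← hn]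
        simp⟩
  obtain ⟨v, hv, e⟩ := h8
  obtain rfl := hθ ((MulAut.conj y⁻¹).injective (by simpa using e) : θ v = θ u)
  exact hv

end Cfsg.Lib.Yam
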