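import Cfsg.Agent.Yam.Exc

set_option autoImplicit false
set_option maxRecDepth 100000

namespace Cfsg.Lib.Yam

open Subgroup Cfsg.Lie Cfsg.Lib.Chev Cfsg.Lib.Chev.Core

theorem frF4 : Frame chevF4 ![26, 31, 42, 46]
    ![![0, 0, 1, 1], ![0, 2, 1, 1], ![2, 2, 1, 1], ![2, 4, 3, 1]]
    ![![1, 0, 0, 1], ![1, 1, 0, 1], ![0, 1, 0, 1], ![0, 0, 0, 0]]
    ![![0, 0, 0, 0], ![0, 0, 0, 0], ![1, 0, 0, 0], ![0, 0, 0, 0]] := by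
  constructor <;> decide +kernel

theorem frE6 : Frame chevE6 ![47, 51, 63, 70]
    ![![0, 1, 0, 1, 0, 0], ![0, 1, 1, 1, 1, 0], ![1, 1, 1, 1, 1, 1], ![1, 1, 2, 3, 2, 1]]
    ![![0, 0, 0, 1, 0, 1], ![0, 0, 0, 1, 1, 1], ![0, 0, 0, 1, 1, 0], ![0, 0, 0, 0, 0, 0]]
    ![![0, 1, 1, 0], ![1, 0, 0, 0], ![1, 1, 0, 0], ![0, 0, 0, 0], ![0, 0, 0, 0], ![0, 0, 0, 0]] := by
  constructor <;> decide +kernel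

theorem frE7 : Frame chevE7 ![65, 71, 74, 79, 85, 91, 125]
    ![![0, 0, 0, 0, 0, 1, 1], ![0, 0, 0, 1, 1, 1, 0], ![0, 0, 1, 1, 0, 0, 0], ![0, 1, 0, 1, 0, 0, 0],
      ![0, 1, 1, 1, 1, 1, 0], ![0, 1, 1, 2, 2, 1, 1], ![2, 2, 3, 4, 3, 2, 1]]
    ![![1, 0, 0, 0, 1, 0, 0], ![1, 0, 0, 0, 1, 0, 1], ![1, 0, 0, 0, 0, 0, 0], 0, 0, 0, 0]
    ![0, ![1, 1, 0, 1, 0, 0, 0], ![1, 1, 1, 0, 0, 0, 0], ![1, 1, 0, 0, 0, 0, 0], 0,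
      ![1, 0, 0, 0, 0, 0, 0], 0] := by
  constructor <;> decide +kernel

theorem frE8 : Frame chevE8 ![122, 124, 136, 142, 157, 160, 231, 234]
    ![![0, 0, 0, 0, 0, 0, 1, 1], ![0, 0, 0, 0, 0, 1, 1, 0], ![0, 0, 1, 1, 0, 0, 0, 0],
      ![0, 1, 0, 1, 0, 0, 0, 0], ![0, 1, 1, 2, 2, 1, 1, 0], ![0, 1, 1, 2, 2, 2, 1, 1],
      ![2, 2, 3, 5, 4, 3, 2, 1], ![2, 3, 4, 5, 4, 3, 2, 1]]
    ![![0, 0, 0, 1, 1, 0, 0, 1], ![0, 0, 0, 1, 1, 0, 0, 0], ![1, 0, 0, 0, 0, 0, 0, 0],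
      ![1, 0, 0, 1, 0, 0, 0, 0], 0, 0, 0, 0]
    ![0, ![0, 0, 0, 1, 0, 0, 0, 0], ![0, 0, 1, 0, 0, 0, 0, 0], 0, 0, ![1, 1, 0, 0, 0, 0, 0, 0],
      ![1, 0, 0, 0, 0, 0, 0, 0], 0] := by
  constructor <;> decide +kernel

end Cfsg.Lib.Yam
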