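import Cfsg.Agent.Yam.Q8
import Cfsg.Agent.Class.Corner

set_option autoImplicit false

namespace Cfsg.Lib.Yam

open Subgroup Matrix Cfsg.Lib.Class
open scoped MatrixGroups

variable {ι K : Type*} [Fintype ι] [DecidableEq ι] [Field K]

/-- A `2 × 2` matrix acting on the coordinates `a` and `b`. -/
def cor {a b : ι} (h : a ≠ b) : Matrix (Fin 2) (Fin 2) K →* Matrix ι ι K :=
  cornerMat (cols2 (Pi.single a 1) (Pi.single b 1)) (rows2 (Pi.single a 1) (Pi.single b 1))
    (rows2_mul_cols2 (by simp) (by simp [h]) (by simp [h.symm]) (by simp))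

theorem cor_eq_1' : type_of% @cor.eq_1 := @cor.eq_1

section

variable {a b : ι} (h : a ≠ b) (M : Matrix (Fin 2) (Fin 2) K)

theorem det_cor : (cor h M).det = M.det := det_cornerMat _ _ _ _

theorem cor_apply (x y : ι) : cor h M x y =
    if x = a then (if y = a then M 0 0 else if y = b then M 0 1 else 0)
    else if x = b then (if y = a then M 1 0 else if y = b then M 1 1 else 0)
    else if x = y then 1 else 0 := by
  simp only [cor, cornerMat_apply, cols2, rows2, Matrix.add_apply, Matrix.mul_apply, Fin.sum_univ_two, of_apply,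
    Matrix.sub_apply, Matrix.one_apply, cons_val_zero, cons_val_one, Pi.single_apply]
  have := h.symm
  split_ifs <;> simp_all

theorem cor_mul (U : Matrix ι ι K) (x y : ι) : (cor h M * U) x y =
    if x = a then M 0 0 * U a y + M 0 1 * U b y
    else if x = b then M 1 0 * U a y + M 1 1 * U b y else U x y := by
  simp only [Matrix.mul_apply, cor_apply]
  split_ifs with h1 h2
  · rw [Fintype.sum_eq_add a b h fun c hc => by simp [hc.1, hc.2]]
    simp [h.symm]
  · rw [Fintype.sum_eq_add a b h fun c hc => by simp [hc.1, hc.2]]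
    simp [h.symm]
  · simp

theorem cor_transpose : (cor h M)ᵀ = cor h Mᵀ := by
  ext x y
  simp only [transpose_apply, cor_apply]
  grind

theorem mul_cor (U : Matrix ι ι K) (x y : ι) : (U * cor h M) x y =
    if y = a then U x a * M 0 0 + U x b * M 1 0
    else if y = b then U x a * M 0 1 + U x b * M 1 1 else U x y := by
  rw [← transpose_apply (U * cor h M), transpose_mul, cor_transpose, cor_mul]
  simp only [transpose_apply, mul_comm]

theorem cor_neg_one :
    cor h (-1 : Matrix (Fin 2) (Fin 2) K) = diagonal fun x => if x = a ∨ x = b then -1 else 1 := by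
  ext x y
  simp only [cor_apply, diagonal_apply]
  have := h.symm
  split_ifs <;> simp_all

theorem cor_comm {c d : ι} (h' : c ≠ d) (N : Matrix (Fin 2) (Fin 2) K) (ac : a ≠ c) (ad : a ≠ d)
    (bc : b ≠ c) (bd : b ≠ d) : cor h M * cor h' N = cor h' N * cor h M := by
  have k : ∀ {a b c d : ι}, a ≠ c → a ≠ d → b ≠ c → b ≠ d →
      rows2 (Pi.single a (1 : K)) (Pi.single b 1) * cols2 (Pi.single c (1 : K)) (Pi.single d 1) = 0 :=
    fun ac ad bc bd => by
      ext i j
      fin_cases i <;> fin_cases j <;>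
        simp [rows2, cols2, Matrix.mul_apply, Pi.single_apply, ac.symm, ad.symm, bc.symm, bd.symm]
  have k1 := k ac ad bc bd
  have k2 := k ac.symm bc.symm ad.symm bd.symm
  simp only [cor, cornerMat_apply, Matrix.add_mul, Matrix.mul_add, Matrix.one_mul, Matrix.mul_one,
    Matrix.mul_assoc]
  rw [← Matrix.mul_assoc (rows2 _ _), ← Matrix.mul_assoc (rows2 _ _), k1, k2]
  simp only [Matrix.zero_mul, Matrix.mul_zero, add_zero]
  abel

theorem lam_eq_one (h2 : (2 : K) ≠ 0) (hM : M * M = -1) (ht : M 1 1 = -M 0 0) {c : ι} (ca : c ≠ a)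
    (cb : c ≠ b) {U W : Matrix ι ι K} (h1 : U * W = 1) (h1' : W * U = 1) {l : K}
    (e : U * cor h M = l • (cor h M * U)) : l = 1 := by
  have e1 : U * cor h M * W = l • cor h M := by
    rw [e, smul_mul_assoc, Matrix.mul_assoc, h1, Matrix.mul_one]
  have e2 : cor h M * cor h M = diagonal fun x => if x = a ∨ x = b then -1 else 1 := by
    rw [← map_mul, hM, cor_neg_one]
  have e3 : (cor h M - 1) * (cor h M * cor h M + 1) = 0 := by
    rw [e2, ← diagonal_one, diagonal_add]
    ext x y
    rw [mul_diagonal, Matrix.sub_apply, cor_apply, diagonal_apply]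
    split_ifs <;> simp_all
  have e4 : (l • cor h M - 1) * (l • cor h M * l • cor h M + 1) = 0 := by
    have x1 : U * cor h M * W - 1 = U * (cor h M - 1) * W := by
      rw [mul_sub, sub_mul, mul_one, h1]
    have x2 : U * cor h M * W * (U * cor h M * W) + 1 = U * (cor h M * cor h M + 1) * W := by
      rw [mul_add, add_mul, mul_one, h1]
      simp only [mul_assoc]
      rw [← mul_assoc W U, h1', one_mul]
    rw [← e1, x1, x2]
    simp only [mul_assoc]
    rw [← mul_assoc W U, h1', one_mul, ← mul_assoc (cor h M - 1), e3, zero_mul, mul_zero]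
  rw [smul_mul_smul_comm, e2, ← diagonal_smul, ← diagonal_one, diagonal_add] at e4
  have k1 := congrFun (congrFun e4 a) a
  have k2 := congrFun (congrFun e4 b) b
  have k3 := congrFun (congrFun e4 c) c
  simp only [mul_diagonal, Matrix.sub_apply, Matrix.smul_apply, cor_apply, diagonal_apply, if_true, true_or,
    or_true, h.symm, if_false, ca, cb, or_self, Pi.smul_apply, smul_eq_mul, Matrix.zero_apply, ht] at k1 k2 k3
  have k4 : l * l = 1 := mul_left_cancel₀ h2 (by linear_combination k1 + k2)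
  rw [k4] at k3
  exact mul_left_cancel₀ h2 (by linear_combination k3)

theorem block_of_comm (h2 : (2 : K) ≠ 0) {α β : K} (hq : α ^ 2 + β ^ 2 = -1) {U : Matrix ι ι K}
    (e1 : U * cor h (qN K) = cor h (qN K) * U) (e2 : U * cor h (qJ hq) = cor h (qJ hq) * U) :
    U a a = U b b ∧ ∀ x y, x ≠ y → (x = a ∨ x = b ∨ y = a ∨ y = b) → U x y = 0 := by
  have k1 := fun x y => congrFun (congrFun e1 x) y
  have k2 := fun x y => congrFun (congrFun e2 x) y
  simp only [cor_mul, mul_cor, coe_qN, coe_qJ, of_apply, cons_val', cons_val_zero, cons_val_one,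
    cons_val_fin_one] at k1 k2
  have a1 := k1 a a
  have a2 := k1 a b
  have a3 := k2 a a
  have a4 := k2 a b
  simp only [if_true, h.symm, if_false] at a1 a2 a3 a4
  have a5 : U a b = 0 := mul_left_cancel₀ h2 (by
    linear_combination (2 * U a b) * hq + (α * a4 - β * a3) + β ^ 2 * a1 - α * β * a2)
  refine ⟨by linear_combination a2, fun x y e k => ?_⟩
  by_cases k3 : x = a ∨ x = b <;> by_cases k4 : y = a ∨ y = b
  · rcases k3 with rfl | rfl <;> rcases k4 with rfl | rfl
    · exact absurd rfl e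
    · exact a5
    · linear_combination -a1 - a5
    · exact absurd rfl e
  · rw [not_or] at k4
    have b1 := k1 a y
    have b2 := k1 b y
    simp only [if_true, h.symm, if_false, k4.1, k4.2] at b1 b2
    rcases k3 with rfl | rfl
    · exact mul_left_cancel₀ h2 (by linear_combination b1 + b2)
    · exact mul_left_cancel₀ h2 (by linear_combination b2 - b1)
  · rw [not_or] at k3
    have b1 := k1 x a
    have b2 := k1 x b
    simp only [if_true, h.symm, if_false, k3.1, k3.2] at b1 b2
    rcases k4 with rfl | rfl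
    · exact mul_left_cancel₀ h2 (by linear_combination b2 - b1)
    · exact mul_left_cancel₀ h2 (by linear_combination -b1 - b2)
  · tauto

end

theorem ns_lin {H κ : Type*} [Group H] [Finite H] [Fintype κ] (h2 : (2 : K) ≠ 0)
    (ρ : H →* Matrix ι ι K) (hρ : Function.Injective ρ)
    (hZ : ∀ z ∈ center H, ∃ l : K, ρ z = l • 1) (a b : κ → ι) (ha : Function.Injective a)
    (hb : Function.Injective b) (hab : ∀ i k, a i ≠ b k)
    (h1 : ∀ x y, (∀ i, x ≠ a i ∧ x ≠ b i) → (∀ i, y ≠ a i ∧ y ≠ b i) → x = y)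
    (h3 : ∀ i, ∃ c, c ≠ a i ∧ c ≠ b i) {α β : K} (hq : α ^ 2 + β ^ 2 = -1)
    (hn : ∀ i, ∃ n, ρ n = cor (hab i i) (qN K)) (hj : ∀ i, ∃ n, ρ n = cor (hab i i) (qJ hq)) :
    NS (H ⧸ center H) := by
  classical
  choose n hn using hn
  choose j hj using hj
  let c : SL(2, K) →* Matrix (Fin 2) (Fin 2) K := (Units.coeHom _).comp SpecialLinearGroup.toGL
  obtain ⟨P, hP, hnP, hjP⟩ := exists_pgroup hρ (fun i => (cor (hab i i)).comp c)
    (fun i k e x y => cor_comm (hab i i) _ (hab k k) _ (ha.ne e) (hab i k) (hab k i).symm (hb.ne e)) hq hn hj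
  refine ns_of_surjective (QuotientGroup.mk' _) (QuotientGroup.mk'_surjective _) hP
    fun u _ hu hc => ?_
  have k1 : ∀ i, ∀ s ∈ P, ∀ M : SL(2, K), ρ s = cor (hab i i) M → M * M = -1 → M 1 1 = -M 0 0 →
      ρ u * cor (hab i i) M = cor (hab i i) M * ρ u := fun i s hs M e hM ht => by
    obtain ⟨l, hl⟩ := hZ _ (QuotientGroup.eq.1 (hc s hs))
    have e1 : ρ u * cor (hab i i) M = l • (cor (hab i i) M * ρ u) := by
      rw [← e, ← map_mul, ← map_mul, ← Matrix.mul_one (ρ (s * u)), ← mul_smul_comm, ← hl,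
        ← map_mul, mul_inv_cancel_left]
    obtain ⟨x, h4, h5⟩ := h3 i
    rw [e1, lam_eq_one _ _ h2 (congrArg Subtype.val hM) ht h4 h5 (W := ρ u⁻¹)
      (by rw [← map_mul, mul_inv_cancel, map_one]) (by rw [← map_mul, inv_mul_cancel, map_one]) e1,
      one_smul]
  have k2 := fun i => k1 i _ (hnP i) _ (hn i) qN_sq (by simp [coe_qN])
  have k3 := fun i => block_of_comm _ h2 hq (k2 i) (k1 i _ (hjP i) _ (hj i) (qJ_sq hq) rfl)
  have k4 : ρ u = diagonal fun x => ρ u x x := by
    ext x y
    rw [diagonal_apply]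
    split_ifs with e
    · rw [e]
    · by_contra e'
      exact e (h1 x y (fun i => ⟨fun k => e' ((k3 i).2 x y e (by tauto)),
        fun k => e' ((k3 i).2 x y e (by tauto))⟩) fun i =>
          ⟨fun k => e' ((k3 i).2 x y e (by tauto)), fun k => e' ((k3 i).2 x y e (by tauto))⟩)
  obtain ⟨μ, k5, k6⟩ : ∃ μ : K, (∀ x, ρ u x x = μ ∨ ρ u x x = -μ) ∧
      ∀ x, (∀ i, x ≠ a i ∧ x ≠ b i) → ρ u x x = μ := by
    obtain ⟨l, hl⟩ := hZ _ ((QuotientGroup.eq_one_iff _).1 hu)
    rw [map_mul, k4, diagonal_mul_diagonal] at hl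
    have k7 : ∀ x y, ρ u x x = ρ u y y ∨ ρ u x x = -ρ u y y := fun x y => by
      have e1 := congrFun (congrFun hl x) x
      have e2 := congrFun (congrFun hl y) y
      simp only [diagonal_apply_eq, Matrix.smul_apply, one_apply_eq] at e1 e2
      exact mul_self_eq_mul_self_iff.1 (e1.trans e2.symm)
    by_cases k8 : ∃ y, ∀ i, y ≠ a i ∧ y ≠ b i
    · obtain ⟨y, hy⟩ := k8
      exact ⟨_, fun x => k7 x y, fun x hx => by rw [h1 x y hx hy]⟩
    · rcases isEmpty_or_nonempty ι with k9 | ⟨⟨y⟩⟩
      · exact ⟨0, fun x => k9.elim x, fun x => k9.elim x⟩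
      · exact ⟨_, fun x => k7 x y, fun x hx => absurd ⟨x, hx⟩ k8⟩
  have k7 : ∀ I : Finset κ, ∃ y : H,
      QuotientGroup.mk' (center H) y ∈ Sq (QuotientGroup.mk' (center H) u) ∧
        ρ y = diagonal fun x => if ∃ i ∈ I, x = a i ∨ x = b i then -1 else 1 := fun I => by
    induction I using Finset.induction_on with
    | empty => exact ⟨1, by rw [map_one]; exact one_mem _, by simp⟩
    | insert i I hi ih =>
      obtain ⟨y, e1, e2⟩ := ih
      refine ⟨n i * n i * y, ?_, ?_⟩
      · rw [map_mul, map_mul]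
        exact mul_mem (sq_mem (by rw [← map_mul, hc _ (hnP i), map_mul])) e1
      · rw [map_mul, map_mul, hn, ← map_mul, e2, show (qN K : Matrix (Fin 2) (Fin 2) K) * qN K = -1
          from congrArg Subtype.val qN_sq, cor_neg_one, diagonal_mul_diagonal]
        congr 1
        funext x
        simp only [Finset.mem_insert, exists_eq_or_imp]
        by_cases e3 : x = a i ∨ x = b i
        · rw [if_pos e3, if_pos (Or.inl e3), if_neg, mul_one]
          rintro ⟨k, hk, e4⟩
          rcases e3 with rfl | rfl <;> rcases e4 with e4 | e4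
          · exact hi (ha e4 ▸ hk)
          · exact hab _ _ e4
          · exact hab _ _ e4.symm
          · exact hi (hb e4 ▸ hk)
        · simp [e3]
  obtain ⟨y, e1, e2⟩ := k7 (Finset.univ.filter fun i => ρ u (a i) (a i) ≠ μ)
  have e3 : ρ (u * y) = μ • 1 := by
    rw [map_mul, k4, e2, diagonal_mul_diagonal, ← diagonal_one, ← diagonal_smul]
    congr 1
    funext x
    simp only [Finset.mem_filter, Finset.mem_univ, true_and, Pi.smul_apply, smul_eq_mul, mul_one]
    split_ifs with e4
    · obtain ⟨i, e5, rfl | rfl⟩ := e4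
      · rw [(k5 _).resolve_left e5]; ring
      · rw [← (k3 i).1, (k5 _).resolve_left e5]; ring
    · rw [mul_one]
      by_contra e5
      exact e5 (k6 x fun i => ⟨fun k => e4 ⟨i, k ▸ e5, Or.inl k⟩,
        fun k => e4 ⟨i, by rw [(k3 i).1, ← k]; exact e5, Or.inr k⟩⟩)
  have e4 : QuotientGroup.mk' (center H) (u * y) = 1 := (QuotientGroup.eq_one_iff _).2
    (mem_center_iff.2 fun g => hρ (by rw [map_mul ρ g, map_mul ρ _ g, e3]; simp))
  rw [map_mul] at e4
  have e5 := inv_mem e1
  rwa [← eq_inv_of_mul_eq_one_left e4] at e5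

end Cfsg.Lib.Yam
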