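import Cfsg.Agent.Yam.Defs
import Cfsg.Agent.Solv.Quaternion
import Mathlib.GroupTheory.NoncommPiCoprod
import Mathlib.LinearAlgebra.Matrix.SpecialLinearGroup

set_option autoImplicit false

namespace Cfsg.Lib.Yam

open Subgroup Matrix
open scoped MatrixGroups

variable {K : Type*} [Field K]

variable (K) in
/-- The first generator of a quaternion subgroup of `SL₂`. -/
def qN : SL(2, K) := ⟨!![0, 1; -1, 0], by simp [det_fin_two]⟩

/-- The second generator of a quaternion subgroup of `SL₂`. -/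
def qJ {α β : K} (h : α ^ 2 + β ^ 2 = -1) : SL(2, K) :=
  ⟨!![α, β; β, -α], by rw [det_fin_two_of]; linear_combination -h⟩

theorem qN_eq_1' : type_of% @qN.eq_1 := @qN.eq_1
theorem qJ_eq_1' : type_of% @qJ.eq_1 := @qJ.eq_1

theorem coe_qN : (qN K : Matrix (Fin 2) (Fin 2) K) = !![0, 1; -1, 0] := rfl

theorem coe_qJ {α β : K} (h : α ^ 2 + β ^ 2 = -1) :
    (qJ h : Matrix (Fin 2) (Fin 2) K) = !![α, β; β, -α] := rfl

theorem qN_sq : qN K * qN K = -1 := Subtype.ext (by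
  change (!![0, 1; -1, 0] : Matrix (Fin 2) (Fin 2) K) * !![0, 1; -1, 0] = -1
  ext i j
  fin_cases i <;> fin_cases j <;> simp)

theorem qJ_sq {α β : K} (h : α ^ 2 + β ^ 2 = -1) : qJ h * qJ h = -1 := Subtype.ext (by
  change (!![α, β; β, -α] : Matrix (Fin 2) (Fin 2) K) * !![α, β; β, -α] = -1
  ext i j
  fin_cases i <;> fin_cases j <;> simp <;> first | linear_combination h | ring)

theorem qN_qJ {α β : K} (h : α ^ 2 + β ^ 2 = -1) : qN K * qJ h * qN K = qJ h := Subtype.ext (by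
  change (!![0, 1; -1, 0] : Matrix (Fin 2) (Fin 2) K) * !![α, β; β, -α] * !![0, 1; -1, 0] =
    !![α, β; β, -α]
  ext i j
  fin_cases i <;> fin_cases j <;> simp)

theorem exists_pgroup {G M κ : Type*} [Group G] [Monoid M] [Fintype κ] {θ : G →* M}
    (hθ : Function.Injective θ) (φ : κ → (SL(2, K) →* M))
    (hc : ∀ i k, i ≠ k → ∀ x y, φ i x * φ k y = φ k y * φ i x) {α β : K}
    (h : α ^ 2 + β ^ 2 = -1) {n j : κ → G} (hn : ∀ i, θ (n i) = φ i (qN K))
    (hj : ∀ i, θ (j i) = φ i (qJ h)) :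
    ∃ P : Subgroup G, IsPGroup 2 P ∧ (∀ i, n i ∈ P) ∧ ∀ i, j i ∈ P := by
  classical
  have h1 : ∀ i, j i * j i = n i ^ 2 := fun i => hθ (by
    rw [sq, map_mul, map_mul, hn, hj, ← map_mul, ← map_mul, qN_sq, qJ_sq])
  have h2 : ∀ i, j i * n i * (j i)⁻¹ = (n i)⁻¹ := fun i => by
    rw [mul_inv_eq_iff_eq_mul, eq_inv_mul_iff_mul_eq, ← mul_assoc]
    exact hθ (by rw [map_mul, map_mul, hn, hj, ← map_mul, ← map_mul, qN_qJ])
  have h3 : ∀ i, n i ^ (2 * 2) = 1 := fun i => hθ (by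
    rw [map_pow, hn, ← map_pow, pow_mul, sq (qN K), qN_sq, neg_one_sq, map_one, map_one])
  let ψ := fun i => Solv.PG.quaternionHom (h1 i) (h2 i) (h3 i)
  have h4 : ∀ i x, ∃ y, θ (ψ i x) = φ i y := fun i x => by
    have h5 : (ψ i).range ≤ ((φ i).toHomUnits.range.comap θ.toHomUnits) := by
      rw [Solv.PG.quaternionHom_range]
      refine sup_le (zpowers_le.2 ⟨qN K, Units.ext (hn i).symm⟩)
        (zpowers_le.2 ⟨qJ h, Units.ext (hj i).symm⟩)
    obtain ⟨y, hy⟩ := h5 ⟨x, rfl⟩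
    exact ⟨y, (congrArg Units.val hy).symm⟩
  have h5 : Pairwise fun i k => ∀ x y, Commute (ψ i x) (ψ k y) := fun i k e x y => hθ (by
    obtain ⟨x', hx⟩ := h4 i x
    obtain ⟨y', hy⟩ := h4 k y
    rw [map_mul, map_mul, hx, hy, hc i k e])
  have h6 : IsPGroup 2 (κ → QuaternionGroup 2) := IsPGroup.of_card (n := 3 * Fintype.card κ) (by
    rw [Nat.card_fun, Nat.card_eq_fintype_card, QuaternionGroup.card, pow_mul,
      Nat.card_eq_fintype_card]
    rfl)
  have h7 : ∀ i, (ψ i).range ≤ (⊤ : Subgroup _).map (MonoidHom.noncommPiCoprod ψ h5) := by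
    rintro i _ ⟨x, rfl⟩
    exact ⟨Pi.mulSingle i x, mem_top _, MonoidHom.noncommPiCoprod_mulSingle ψ i x⟩
  refine ⟨_, (h6.to_subgroup ⊤).map (MonoidHom.noncommPiCoprod ψ h5), fun i => h7 i ?_,
    fun i => h7 i ?_⟩ <;> rw [Solv.PG.quaternionHom_range]
  · exact mem_sup_left (mem_zpowers _)
  · exact mem_sup_right (mem_zpowers _)

theorem exists_int_sq (K : Type*) [Field K] (p : ℕ) [Fact p.Prime] [CharP K p] :
    ∃ a b : ℤ, (a : K) ^ 2 + (b : K) ^ 2 = -1 := by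
  have : NeZero p := ⟨(Fact.out : p.Prime).ne_zero⟩
  obtain ⟨a, b, hab⟩ := CharP.sq_add_sq K p (-1)
  exact ⟨a, b, by exact_mod_cast hab⟩

end Cfsg.Lib.Yam
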