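import Cfsg.Agent.Yam.Defs
import Cfsg.Agent.Rank2.SimpleSyl
import Cfsg.Prelude.Def_TwoFusion

set_option autoImplicit false

namespace Cfsg.Lib.Yam

open Subgroup Cfsg.Lib.Local

variable {G : Type*} [Group G]

/-- The centraliser of the involution `t` is the direct product of `⟨t⟩` and `F`. -/
structure Dp (t : G) (F : Subgroup G) : Prop where
  ord : orderOf t = 2
  comm : ∀ f ∈ F, f * t = t * f
  not_mem : t ∉ F
  cases : ∀ c, c * t = t * c → c ∈ F ∨ t * c ∈ F

theorem mul_self_of_ord {t : G} (h : orderOf t = 2) : t * t = 1 := by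
  rw [← sq, ← h, pow_orderOf_eq_one]

theorem ord_of_mul_self {t : G} (h : t * t = 1) (h1 : t ≠ 1) : orderOf t = 2 :=
  orderOf_eq_prime (by rw [sq, h]) h1

theorem ord_conj (g x : G) : orderOf (g * x * g⁻¹) = orderOf x := by
  rw [← MulAut.conj_apply, MulEquiv.orderOf_eq]

theorem mem_zpowers_of_ord {t a : G} (h : orderOf t = 2) (ha : a ∈ zpowers t) : a = 1 ∨ a = t := by
  obtain ⟨n, rfl⟩ := ha
  have h2 := mul_self_of_ord h
  obtain ⟨k, rfl | rfl⟩ := Int.even_or_odd' n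
  · exact Or.inl (by show t ^ (2 * k) = 1; rw [zpow_mul, zpow_two, h2, one_zpow])
  · exact Or.inr (by show t ^ (2 * k + 1) = t; rw [zpow_add_one, zpow_mul, zpow_two, h2, one_zpow, one_mul])

theorem dp_of {t : G} {F : Subgroup G} (ht : orderOf t = 2)
    (h : IsInternalDirectProduct (zpowers t) F (centralizer {t})) : Dp t F := by
  obtain ⟨-, h2, h3, h4, h5⟩ := h
  have h6 := mul_self_of_ord ht
  refine ⟨ht, fun f hf => (h3 t (mem_zpowers t) f hf).symm, fun e => ?_, fun c hc => ?_⟩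
  · have : t ∈ zpowers t ⊓ F := ⟨mem_zpowers t, e⟩
    rw [h4, mem_bot] at this
    simp [this] at ht
  · have hc' : c ∈ zpowers t ⊔ F := h5 ▸ mem_centralizer_singleton_iff.2 hc
    have hn : F ≤ normalizer (zpowers t : Set G) := fun f hf =>
      centralizer_le_normalizer _ (mem_centralizer_iff.2 fun a ha => h3 a ha f hf)
    rw [← SetLike.mem_coe, coe_mul_of_right_le_normalizer_left _ _ hn] at hc'
    obtain ⟨a, ha, f, hf, rfl⟩ := hc'
    rcases mem_zpowers_of_ord ht ha with rfl | rfl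
    · exact Or.inl (by simpa using hf)
    · exact Or.inr (by show a * (a * f) ∈ F; rwa [← mul_assoc, h6, one_mul])

namespace Dp

variable {t : G} {F : Subgroup G} (h : Dp t F)
include h

theorem mul_self : t * t = 1 := mul_self_of_ord h.ord

theorem ne_one : t ≠ 1 := fun e => h.not_mem (e ▸ F.one_mem)

theorem sq_mem {c : G} (hc : c * t = t * c) : c * c ∈ F := by
  rcases h.cases c hc with h1 | h1
  · exact F.mul_mem h1 h1
  · have := F.mul_mem h1 h1
    rwa [show t * c * (t * c) = c * c by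
      rw [mul_assoc t c, ← mul_assoc c t, hc, mul_assoc t c, ← mul_assoc t t, h.mul_self, one_mul]] at this

theorem conj (g : G) : Dp (g * t * g⁻¹) (F.map (MulAut.conj g).toMonoidHom) where
  ord := by rw [ord_conj, h.ord]
  comm := by
    rintro _ ⟨f, hf, rfl⟩
    show g * f * g⁻¹ * (g * t * g⁻¹) = g * t * g⁻¹ * (g * f * g⁻¹)
    rw [conj_mul, conj_mul, h.comm f hf]
  not_mem := by
    rintro ⟨f, hf, e⟩
    have : f = t := (MulAut.conj g).injective e
    exact h.not_mem (this ▸ hf)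
  cases c hc := by
    have h1 : g⁻¹ * c * g * t = t * (g⁻¹ * c * g) := by
      calc g⁻¹ * c * g * t = g⁻¹ * (c * (g * t * g⁻¹)) * g := by group
        _ = t * (g⁻¹ * c * g) := by rw [hc]; group
    rcases h.cases _ h1 with h2 | h2
    · exact Or.inl ⟨_, h2, by simp [mul_assoc]⟩
    · exact Or.inr ⟨_, h2, by simp [mul_assoc]⟩

theorem conj_mem {c f : G} (hc : c * t = t * c) (hf : f ∈ F) : c * f * c⁻¹ ∈ F := by
  rcases h.cases c hc with h1 | h1
  · exact F.mul_mem (F.mul_mem h1 hf) (F.inv_mem h1)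
  · have h2 := F.mul_mem (F.mul_mem h1 hf) (F.inv_mem h1)
    have h3 := h.comm _ h2
    have h4 : t * c * f * (t * c)⁻¹ * t = t * (c * f * c⁻¹) := by group
    rwa [← mul_left_cancel (h3.symm.trans h4)]

theorem card [Finite G] : Nat.card (centralizer ({t} : Set G)) = 2 * Nat.card F := by
  have h1 : F ≤ centralizer ({t} : Set G) := fun f hf => mem_centralizer_singleton_iff.2 (h.comm f hf)
  have h2 : (F.subgroupOf (centralizer ({t} : Set G))).index = 2 := by
    refine index_eq_two_iff.2 ⟨⟨t, mem_centralizer_singleton_iff.2 rfl⟩, fun b => ?_⟩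
    have hb := mem_centralizer_singleton_iff.1 b.2
    simp only [mem_subgroupOf, coe_mul, hb]
    rcases h.cases b hb with h3 | h3
    · exact Or.inr ⟨h3, fun e => h.not_mem ((mul_mem_cancel_right h3).1 e)⟩
    · exact Or.inl ⟨h3, fun e => h.not_mem ((mul_mem_cancel_right e).1 h3)⟩
  rw [← (F.subgroupOf _).index_mul_card, h2, Nat.card_congr (subgroupOfEquivOfLe h1).toEquiv]

theorem nonempty_equiv : Nonempty (centralizer ({t} : Set G) ≃* Multiplicative (ZMod 2) × F) := by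
  have h2 : t ^ 2 = 1 := by rw [sq, h.mul_self]
  let a : Multiplicative (ZMod 2) →* G := AddMonoidHom.toMultiplicativeLeft (ZMod.lift 2
    ⟨zmultiplesHom (Additive G) (Additive.ofMul t), by
      show (2 : ℤ) • Additive.ofMul t = 0
      rw [← ofMul_zpow, zpow_two, h.mul_self, ofMul_one]⟩)
  have ha : a (Multiplicative.ofAdd 1) = t := by
    show Additive.toMul (ZMod.lift 2 _ ((1 : ℤ) : ZMod 2)) = t
    rw [ZMod.lift_coe]
    simp
  have hz : ∀ z : Multiplicative (ZMod 2), z = 1 ∨ z = Multiplicative.ofAdd 1 := by decide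
  have hc : ∀ z (f : F), Commute (a z) (F.subtype f) := fun z f => by
    rcases hz z with rfl | rfl
    · rw [map_one]; exact Commute.one_left _
    · rw [ha]; exact (h.comm f f.2).symm
  let φ := a.noncommCoprod F.subtype hc
  have hφ : ∀ z f, φ (z, f) = a z * f := fun _ _ => rfl
  have hi : Function.Injective φ := (injective_iff_map_eq_one φ).2 fun ⟨z, f⟩ e => by
    rw [hφ] at e
    rcases hz z with rfl | rfl
    · rw [map_one, one_mul] at e
      exact Prod.ext rfl (Subtype.ext e)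
    · rw [ha] at e
      exact absurd ((mul_mem_cancel_right f.2).1 (e ▸ F.one_mem)) h.not_mem
  have hr : φ.range = centralizer ({t} : Set G) := by
    ext c
    rw [mem_centralizer_singleton_iff]
    constructor
    · rintro ⟨⟨z, f⟩, rfl⟩
      rw [hφ]
      rcases hz z with rfl | rfl
      · rw [map_one, one_mul]; exact h.comm f f.2
      · rw [ha, mul_assoc, h.comm f f.2]
    · intro hc
      rcases h.cases c hc with h1 | h1
      · exact ⟨(1, ⟨c, h1⟩), by rw [hφ, map_one, one_mul]⟩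
      · exact ⟨(Multiplicative.ofAdd 1, ⟨_, h1⟩), by
          rw [hφ, ha, ← mul_assoc, h.mul_self, one_mul]⟩
  exact ⟨(MulEquiv.subgroupCongr hr.symm).trans (MonoidHom.ofInjective hi).symm⟩

variable [Finite G] {S : Sylow 2 G} (htc : ∀ s ∈ (S : Subgroup G), s * t = t * s)
include htc

theorem fuse : (∃ H : Subgroup G, H.index = 2 ∧ t ∉ H) ∨ ∃ g : G, g * t * g⁻¹ ∈ F ∧
    (∀ s ∈ (S : Subgroup G), g * s * g⁻¹ ∈ (S : Subgroup G)) ∧
      ∀ s ∈ (S : Subgroup G), s * (g * t * g⁻¹) = g * t * g⁻¹ * s := by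
  have h1 : IdxLeTwo F S := fun a ha b hb ha' hb' => by
    have h2 := (h.cases a (htc a ha)).resolve_left ha'
    have h3 := (h.cases b (htc b hb)).resolve_left hb'
    have := F.mul_mem h2 h3
    rwa [show t * a * (t * b) = a * b by
      rw [← htc a ha, mul_assoc, ← mul_assoc t, h.mul_self, one_mul]] at this
  refine (thompson_or S h1 h.ord S S.isPGroup' htc).imp id fun ⟨g, _, h2, h3⟩ => ⟨g, h2, h3, ?_⟩
  have h4 : (S : Subgroup G).map (MulAut.conj g).toMonoidHom = S :=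
    eq_of_le_of_card_ge (by rintro _ ⟨s, hs, rfl⟩; exact h3 s hs)
      (card_map_of_injective (MulAut.conj g).injective).ge
  intro s hs
  obtain ⟨r, hr, rfl⟩ := h4.ge hs
  show g * r * g⁻¹ * (g * t * g⁻¹) = g * t * g⁻¹ * (g * r * g⁻¹)
  rw [conj_mul, conj_mul, htc r hr]

theorem exists_sylow : ∃ T : Sylow 2 F, ∀ f : F, f ∈ (T : Subgroup F) ↔ (f : G) ∈ (S : Subgroup G) := by
  obtain ⟨T, hT⟩ := (S.isPGroup'.comap_of_injective F.subtype F.subtype_injective).exists_le_sylow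
  refine ⟨T, fun f => ⟨fun hf => ?_, fun hf => hT hf⟩⟩
  have h1 : IsPGroup 2 (zpowers t) := IsPGroup.of_card (n := 1) (by rw [Nat.card_zpowers, h.ord]; rfl)
  have h2 : (T : Subgroup F).map F.subtype ≤ normalizer (zpowers t : Set G) := by
    rintro _ ⟨a, -, rfl⟩
    refine centralizer_le_normalizer _ (mem_centralizer_iff.2 ?_)
    rintro _ ⟨n, rfl⟩
    exact (Commute.zpow_left (show Commute t (a : G) from (h.comm a a.2).symm) n).eq
  have h3 := IsPGroup.to_sup_of_normal_left' h1 (T.isPGroup'.map F.subtype) h2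
  have h4 := S.is_maximal' h3 fun s hs => by
    rcases h.cases s (htc s hs) with h5 | h5
    · exact mem_sup_right ⟨⟨s, h5⟩, hT hs, rfl⟩
    · have h6 : t * s ∈ (S : Subgroup G) := mul_mem (mem_sylow S h.mul_self htc) hs
      have : t * (t * s) ∈ zpowers t ⊔ (T : Subgroup F).map F.subtype :=
        mul_mem (mem_sup_left (mem_zpowers t)) (mem_sup_right ⟨⟨_, h5⟩, hT h6, rfl⟩)
      rwa [← mul_assoc, h.mul_self, one_mul] at this
  exact h4.le (mem_sup_right ⟨f, hf, rfl⟩)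

theorem of_ns (hF : NS F) : ∃ H : Subgroup G, H.index = 2 ∧ t ∉ H := by
  rcases h.fuse htc with h0 | ⟨g, h1, -, h3⟩
  · exact h0
  exfalso
  obtain ⟨T, hT⟩ := h.exists_sylow htc
  have hd := h.conj g
  generalize g * t * g⁻¹ = u at h1 h3 hd
  have h2 : orderOf (⟨u, h1⟩ : F) = 2 := by
    rw [← orderOf_coe]; exact hd.ord
  have h4 := hF T ⟨u, h1⟩ h2 fun s hs => Subtype.ext (h3 s ((hT s).1 hs))
  have h5 := map_mem_Sq F.subtype h4
  rw [coe_subtype] at h5
  have h6 : Sq u ≤ F.map (MulAut.conj g).toMonoidHom := Sq_le fun x hx => hd.sq_mem hx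
  exact hd.not_mem (h6 h5)

theorem elem (h4 : ∀ x : F, orderOf (x * x) ≠ 2) {s : G} (hs : s ∈ (S : Subgroup G)) :
    s * s = 1 := by
  have h1 : ∀ (k : ℕ) (f : F), f ^ 2 ^ k = 1 → f * f = 1 := fun k => by
    induction k with
    | zero => intro f hf; rw [pow_zero, pow_one] at hf; rw [hf, mul_one]
    | succ k ih =>
      intro f hf
      rw [pow_succ', pow_mul, sq] at hf
      by_contra e
      exact h4 f (ord_of_mul_self (ih _ hf) e)
  have h2 : ∀ f ∈ F, f ∈ (S : Subgroup G) → f * f = 1 := fun f hf hS => by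
    obtain ⟨k, hk⟩ := S.isPGroup' ⟨f, hS⟩
    have hk' : f ^ 2 ^ k = 1 := congrArg Subtype.val hk
    exact congrArg Subtype.val (h1 k ⟨f, hf⟩ (Subtype.ext hk'))
  rcases h.cases s (htc s hs) with h5 | h5
  · exact h2 s h5 hs
  · have := h2 _ h5 (mul_mem (mem_sylow S h.mul_self htc) hs)
    rwa [← htc s hs, mul_assoc, ← mul_assoc t s, ← htc s hs, mul_assoc s t, h.mul_self,
      mul_one] at this

theorem simple_of [IsSimpleGroup F] (hn : ¬ IsMulCommutative F)
    (h1 : ∀ a b : F, orderOf a = 2 → orderOf b = 2 → IsConj a b)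
    (h4 : ∀ x : F, orderOf (x * x) ≠ 2) :
    (∃ H : Subgroup G, H.index = 2 ∧ t ∉ H) ∨ IsSimpleGroup G := by
  refine (h.fuse htc).imp id fun ⟨g, hu, hg, hc⟩ => ?_
  have he := fun s hs => h.elem htc h4 (s := s) hs
  have hd := h.conj g
  set u := g * t * g⁻¹ with hu'
  set E := F.map (MulAut.conj g).toMonoidHom with hE
  have ht := mem_sylow S h.mul_self htc
  have huS : u ∈ (S : Subgroup G) := hg t ht
  obtain ⟨T, hT⟩ := h.exists_sylow htc
  obtain ⟨v, hvS, hvF, hvE, hv1⟩ : ∃ v ∈ (S : Subgroup G), v ∈ F ∧ v ∈ E ∧ v ≠ 1 := by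
    have h5 := Rank2.not_isCyclic_sylow hn T
    rw [isCyclic_iff_exists_zpowers_eq_top] at h5
    obtain ⟨a, ha⟩ : ∃ a : (T : Subgroup F), a ∉ zpowers (⟨⟨u, hu⟩, (hT _).2 huS⟩ : (T : Subgroup F)) :=
      by_contra fun e => h5 ⟨_, eq_top_iff.2 fun a _ => by_contra fun e' => e ⟨a, e'⟩⟩
    have haS := (hT _).1 a.2
    rcases hd.cases _ (hc _ haS) with h6 | h6
    · exact ⟨_, haS, a.1.2, h6, fun e => ha (by
        rw [show a = 1 from Subtype.ext (Subtype.ext e)]; exact one_mem _)⟩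
    · refine ⟨_, mul_mem huS haS, mul_mem hu a.1.2, h6, fun e => ha ?_⟩
      rw [show a = (⟨⟨u, hu⟩, (hT _).2 huS⟩ : (T : Subgroup F))⁻¹ from
        Subtype.ext (Subtype.ext (eq_inv_of_mul_eq_one_right e))]
      exact inv_mem (mem_zpowers _)
  have huv : u * v ≠ 1 := fun e => hd.not_mem (by
    rw [eq_inv_of_mul_eq_one_left e]; exact inv_mem hvE)
  have cF : ∀ a ∈ F, ∀ b ∈ F, a * a = 1 → a ≠ 1 → b * b = 1 → b ≠ 1 → ∃ n ∈ F, n * a * n⁻¹ = b :=
    fun a ha b hb a2 a1 b2 b1 => by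
      obtain ⟨n, hn⟩ := isConj_iff.1 (h1 ⟨a, ha⟩ ⟨b, hb⟩
        (by rw [← orderOf_coe]; exact ord_of_mul_self a2 a1)
        (by rw [← orderOf_coe]; exact ord_of_mul_self b2 b1))
      exact ⟨n, n.2, congrArg Subtype.val hn⟩
  have cE : ∀ a ∈ E, ∀ b ∈ E, a * a = 1 → a ≠ 1 → b * b = 1 → b ≠ 1 → ∃ n ∈ E, n * a * n⁻¹ = b := by
    rintro _ ⟨a, ha, rfl⟩ _ ⟨b, hb, rfl⟩ a2 a1 b2 b1
    have hi : Function.Injective (MulAut.conj g).toMonoidHom := (MulAut.conj g).injective
    rw [← map_mul, map_eq_one_iff _ hi] at a2 b2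
    obtain ⟨n, hn, e⟩ := cF a ha b hb a2 (fun e => a1 (by rw [e, map_one])) b2
      fun e => b1 (by rw [e, map_one])
    exact ⟨_, ⟨n, hn, rfl⟩, by rw [← map_inv, ← map_mul, ← map_mul, e]⟩
  have key : ∀ N : Subgroup G, N.Normal → F ≤ N → ∀ s ∈ (S : Subgroup G), s ≠ 1 →
      ∃ n ∈ N, n * v * n⁻¹ = s := fun N hN hF s hs s1 => by
    have hEN : E ≤ N := by
      rintro _ ⟨f, hf, rfl⟩
      exact hN.conj_mem f (hF hf) g
    rcases hd.cases s (hc s hs) with h5 | h5
    · obtain ⟨n, hn, e⟩ := cE v hvE s h5 (he v hvS) hv1 (he s hs) s1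
      exact ⟨n, hEN hn, e⟩
    by_cases h6 : u * s = 1
    · obtain ⟨n, hn, e⟩ := cF v hvF s (by rw [eq_inv_of_mul_eq_one_right h6]; exact inv_mem hu)
        (he v hvS) hv1 (he s hs) s1
      exact ⟨n, hF hn, e⟩
    obtain ⟨n, hn, e⟩ := cE v hvE _ h5 (he v hvS) hv1 (he _ (mul_mem huS hs)) h6
    obtain ⟨m, hm, e'⟩ := cF v hvF _ (mul_mem hu hvF) (he v hvS) hv1 (he _ (mul_mem huS hvS)) huv
    refine ⟨n * m, mul_mem (hEN hn) (hF hm), ?_⟩
    calc n * m * v * (n * m)⁻¹ = n * (m * v * m⁻¹) * n⁻¹ := by group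
      _ = n * u * (v * n⁻¹) := by rw [e']; group
      _ = u * (n * v * n⁻¹) := by rw [hd.comm n hn]; group
      _ = s := by rw [e, ← mul_assoc, hd.mul_self, one_mul]
  have all : ∀ y : G, y * y = 1 → y ≠ 1 → ∃ n, n * v * n⁻¹ = y := fun y y2 y1 => by
    have h5 : IsPGroup 2 (zpowers y) :=
      IsPGroup.of_card (n := 1) (by rw [Nat.card_zpowers, ord_of_mul_self y2 y1]; rfl)
    obtain ⟨Q, hQ⟩ := h5.exists_le_sylow
    obtain ⟨x, rfl⟩ := MulAction.exists_smul_eq G S Q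
    have h6 := hQ (mem_zpowers y)
    rw [Sylow.coe_subgroup_smul, mem_pointwise_smul_iff_inv_smul_mem, ← map_inv, MulAut.smul_def,
      MulAut.conj_apply, inv_inv] at h6
    obtain ⟨n, -, e⟩ := key ⊤ inferInstance le_top _ h6 fun e => y1 (by
      calc y = x * (x⁻¹ * y * x) * x⁻¹ := by group
        _ = 1 := by rw [e]; group)
    refine ⟨x * n, ?_⟩
    calc x * n * v * (x * n)⁻¹ = x * (n * v * n⁻¹) * x⁻¹ := by group
      _ = y := by rw [e]; group
  have : Nontrivial G := ⟨⟨v, 1, hv1⟩⟩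
  refine ⟨fun N hN => ?_⟩
  rcases (hN.comap F.subtype).eq_bot_or_eq_top with h5 | h5
  · have h6 : ∀ f ∈ F, f ∈ N → f = 1 := fun f hf hf' =>
      congrArg Subtype.val (mem_bot.1 (h5.le (show (⟨f, hf⟩ : F) ∈ N.comap F.subtype from hf')))
    have h7 : ∀ k ∈ N, t * k = k * t → k = 1 := fun k hk e => by_contra fun k1 => by
      obtain ⟨n, rfl⟩ := all k (h6 _ (h.sq_mem e.symm) (mul_mem hk hk)) k1
      exact hv1 (h6 v hvF (by simpa [mul_assoc] using hN.conj_mem _ hk n⁻¹))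
    have h8 : ∀ y : G, y * y = 1 → y ≠ 1 → ∀ k ∈ N, y * k = k * y → k = 1 := fun y y2 y1 k hk e => by
      obtain ⟨n, rfl⟩ := all y y2 y1
      obtain ⟨m, hm⟩ := all t h.mul_self h.ne_one
      have := h7 _ (hN.conj_mem k hk (m * n⁻¹)) (by
        rw [← hm]
        calc m * v * m⁻¹ * (m * n⁻¹ * k * (m * n⁻¹)⁻¹) =
            m * n⁻¹ * (n * v * n⁻¹ * k) * (m * n⁻¹)⁻¹ := by group
          _ = _ := by rw [e]; group)
      calc k = (m * n⁻¹)⁻¹ * (m * n⁻¹ * k * (m * n⁻¹)⁻¹) * (m * n⁻¹) := by group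
        _ = 1 := by rw [this]; group
    exact Or.inl (eq_bot_of_four_fpf hd.mul_self (he v hvS)
      (by rw [normalizer_eq_top]; trivial) (by rw [normalizer_eq_top]; trivial)
      (h8 u hd.mul_self hd.ne_one) (h8 v (he v hvS) hv1) (h8 _ (he _ (mul_mem huS hvS)) huv))
  · have h6 : F ≤ N := fun f hf => h5.ge (mem_top (⟨f, hf⟩ : F))
    have htN : t ∈ N := by simpa [hu', mul_assoc] using hN.conj_mem u (h6 hu) g⁻¹
    have h7 : ∀ c, c * t = t * c → c ∈ N := fun c e =>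
      (h.cases c e).elim (fun k => h6 k) fun k => (mul_mem_cancel_left htN).1 (h6 k)
    have h8 : (S : Subgroup G) ≤ N := fun s hs => h7 s (htc s hs)
    have h9 := Sylow.normalizer_sup_eq_top' S h8
    refine Or.inr (eq_top_iff.2 (h9.ge.trans (sup_le (fun x hx => ?_) le_rfl)))
    obtain ⟨n, hn, e⟩ := key N hN h6 t ht h.ne_one
    obtain ⟨m, hm, e'⟩ := key N hN h6 _ ((mem_normalizer_iff.1 hx t).1 ht) (by
      intro e
      exact h.ne_one (by simpa [mul_assoc] using congrArg (fun z => x⁻¹ * z * x) e))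
    have := h7 (n * m⁻¹ * x) (by
      calc n * m⁻¹ * x * t = n * m⁻¹ * (x * t * x⁻¹) * x := by group
        _ = n * v * n⁻¹ * (n * m⁻¹ * x) := by rw [← e']; group
        _ = _ := by rw [e])
    exact (mul_mem_cancel_left (mul_mem hn (inv_mem hm))).1 this

end Dp

end Cfsg.Lib.Yam
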